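import Groth.Agent.FSch.K785.ExAdj

/-!
# Base change morphisms on derived categories along exact adjunctions

`L₁ ⊣ R₁`, `L₂ ⊣ R₂` adjunctions between exact functors, `RF : D(B₁) ⥤ D(B₂)`, `RF' : D(A₁) ⥤ D(A₂)` and
`σ : R₁ ⋙ RF ≅ RF' ⋙ R₂`.
* `beta : RF ⋙ L₂ ⟶ L₁ ⋙ RF'`;
* `unit_beta`: the morphism adjoint to `beta`;
* `isIso_homology_beta`: a criterion for `H^j(beta)` to be an isomorphism on `M[0][i]`.
-/

set_option autoImplicit false
set_option backward.defeqAttrib.useBackward true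
set_option backward.isDefEq.respectTransparency false

universe w₁ w₂ w₃ w₄ v₁ v₂ v₃ v₄ u₁ u₂ u₃ u₄

open CategoryTheory CategoryTheory.Limits Category DerivedCategory

noncomputable section

namespace K785.BCAbs

open Groth.Agent.Dcoh.MapDer K785.ExAdj

variable {B₁ : Type u₁} [Category.{v₁} B₁] [Abelian B₁] {B₂ : Type u₂} [Category.{v₂} B₂] [Abelian B₂]
  {A₁ : Type u₃} [Category.{v₃} A₁] [Abelian A₁] {A₂ : Type u₄} [Category.{v₄} A₂] [Abelian A₂]
  [HasDerivedCategory.{w₁} B₁] [HasDerivedCategory.{w₂} B₂] [HasDerivedCategory.{w₃} A₁] [HasDerivedCategory.{w₄} A₂]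
  {L₁ : B₁ ⥤ A₁} {R₁ : A₁ ⥤ B₁} (adj₁ : L₁ ⊣ R₁) [L₁.Additive] [R₁.Additive]
  [PreservesFiniteLimits L₁] [PreservesFiniteColimits L₁] [PreservesFiniteLimits R₁] [PreservesFiniteColimits R₁]
  {L₂ : B₂ ⥤ A₂} {R₂ : A₂ ⥤ B₂} (adj₂ : L₂ ⊣ R₂) [L₂.Additive] [R₂.Additive]
  [PreservesFiniteLimits L₂] [PreservesFiniteColimits L₂] [PreservesFiniteLimits R₂] [PreservesFiniteColimits R₂]
  {RF : DerivedCategory B₁ ⥤ DerivedCategory B₂} {RF' : DerivedCategory A₁ ⥤ DerivedCategory A₂}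
  (σ : R₁.mapDerivedCategory ⋙ RF ≅ RF' ⋙ R₂.mapDerivedCategory)

/-- The base change morphism. -/
def beta : RF ⋙ L₂.mapDerivedCategory ⟶ L₁.mapDerivedCategory ⋙ RF' where
  app E := L₂.mapDerivedCategory.map (RF.map ((adjD adj₁).unit.app E) ≫ σ.hom.app (L₁.mapDerivedCategory.obj E)) ≫
    (adjD adj₂).counit.app (RF'.obj (L₁.mapDerivedCategory.obj E))
  naturality E E' φ := by
    have h1 := (adjD adj₁).unit.naturality φ
    have h2 := σ.hom.naturality (L₁.mapDerivedCategory.map φ)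
    have h3 := (adjD adj₂).counit.naturality (RF'.map (L₁.mapDerivedCategory.map φ))
    dsimp only [Functor.comp_map, Functor.id_map] at h1 h2 h3 ⊢
    rw [Category.assoc, ← h3, ← L₂.mapDerivedCategory.map_comp_assoc, ← L₂.mapDerivedCategory.map_comp_assoc,
      ← RF.map_comp_assoc, h1, RF.map_comp, Category.assoc, h2, Category.assoc]

/-- The morphism adjoint to the base change morphism. -/
theorem unit_beta (E : DerivedCategory B₁) :
    (adjD adj₂).unit.app (RF.obj E) ≫ R₂.mapDerivedCategory.map ((beta adj₁ adj₂ σ).app E) =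
      RF.map ((adjD adj₁).unit.app E) ≫ σ.hom.app (L₁.mapDerivedCategory.obj E) := by
  have h := ((adjD adj₂).homEquiv _ _).apply_symm_apply
    (RF.map ((adjD adj₁).unit.app E) ≫ σ.hom.app (L₁.mapDerivedCategory.obj E))
  rw [Adjunction.homEquiv_unit, Adjunction.homEquiv_counit] at h
  exact h

/-- **Criterion.** -/
theorem isIso_homology_beta (T : B₁ ⥤ B₂) (i j : ℤ)
    (a : singleFunctor B₁ 0 ⋙ shiftFunctor (DerivedCategory B₁) i ⋙ RF ⋙ homologyFunctor B₂ j ≅ T) (M : B₁)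
    (θ : R₂.obj (L₂.obj (T.obj M)) ≅ T.obj (R₁.obj (L₁.obj M)))
    (hθ : adj₂.unit.app (T.obj M) ≫ θ.hom = T.map (adj₁.unit.app M))
    (hlift : ∀ (N : A₂) (g : R₂.obj N ⟶ R₂.obj (L₂.obj (T.obj M))), ∃ ψ, R₂.map ψ = g)
    (hiso : ∀ (N N' : A₂) (ψ : N ⟶ N'), IsIso (R₂.map ψ) → IsIso ψ) :
    IsIso ((homologyFunctor A₂ j).map ((beta adj₁ adj₂ σ).app (((singleFunctor B₁ 0).obj M)⟦i⟧))) := by
  obtain ⟨w, v, hwv⟩ := unit_shift_single adj₁ M i
  let E : DerivedCategory B₁ := ((singleFunctor B₁ 0).obj M)⟦i⟧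
  let aM : (homologyFunctor B₂ j).obj (RF.obj E) ≅ T.obj M := a.app M
  let θ' : R₂.obj (L₂.obj ((homologyFunctor B₂ j).obj (RF.obj E))) ≅
      R₂.obj ((homologyFunctor A₂ j).obj (RF'.obj (L₁.mapDerivedCategory.obj E))) :=
    R₂.mapIso (L₂.mapIso aM) ≪≫ θ ≪≫ T.mapIso v ≪≫ (a.app (R₁.obj (L₁.obj M))).symm ≪≫
      (homologyFunctor B₂ j).mapIso (RF.mapIso w.symm ≪≫ σ.app (L₁.mapDerivedCategory.obj E)) ≪≫
        (homologyMapDer R₂ j).app (RF'.obj (L₁.mapDerivedCategory.obj E))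
  refine isIso_of_lift adj₂ (RF.obj E) (RF'.obj (L₁.mapDerivedCategory.obj E)) _ j θ' ?_ ?_ (hiso _ _)
  · rw [unit_beta]
    have h1 := adj₂.unit.naturality aM.hom
    dsimp only [Functor.id_map, Functor.comp_map] at h1
    have h2 := a.hom.naturality (adj₁.unit.app M ≫ v.hom)
    dsimp only [Functor.comp_map] at h2
    have e1 : θ'.hom = R₂.map (L₂.map aM.hom) ≫ θ.hom ≫ T.map v.hom ≫ a.inv.app (R₁.obj (L₁.obj M)) ≫
      (homologyFunctor B₂ j).map (RF.map w.inv ≫ σ.hom.app (L₁.mapDerivedCategory.obj E)) ≫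
        (homologyMapDer R₂ j).hom.app (RF'.obj (L₁.mapDerivedCategory.obj E)) := rfl
    rw [e1, ← reassoc_of% h1, reassoc_of% hθ, ← Functor.map_comp_assoc]
    have e2 : aM.hom ≫ T.map (adj₁.unit.app M ≫ v.hom) = (homologyFunctor B₂ j).map
        (RF.map (((singleFunctor B₁ 0).map (adj₁.unit.app M ≫ v.hom))⟦i⟧')) ≫ a.hom.app (R₁.obj (L₁.obj M)) :=
      h2.symm
    rw [reassoc_of% e2, Iso.hom_inv_id_app_assoc, ← hwv, ← Functor.map_comp_assoc, ← Functor.map_comp_assoc,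
      Category.assoc, Iso.hom_inv_id, Category.comp_id]
  · intro g
    obtain ⟨ψ, hψ⟩ := hlift _ (g ≫ R₂.map (L₂.map aM.hom))
    refine ⟨ψ ≫ L₂.map aM.inv, ?_⟩
    rw [R₂.map_comp, hψ, Category.assoc, ← R₂.map_comp, ← L₂.map_comp, Iso.hom_inv_id, L₂.map_id, R₂.map_id,
      Category.comp_id]

end K785.BCAbs
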