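import Groth.Agent.FSch.K785.PushFilt
import Groth.Agent.FormalA.ColimOpen
import Groth.Agent.Ega1.ModToSheaf

/-!
# Higher direct images and filtered colimits, locally Noetherian case

`f : (T₁, O₁) ⟶ (T₂, O₂)` a morphism of ringed spaces such that `f⁻¹ V` is a Noetherian space for all `V` in a basis
of `T₂`. Then `R^q f_*` commutes with filtered colimits (`preservesColimitsOfShape_Rpush`).
-/

set_option autoImplicit false
set_option linter.style.haveILetI false
universe u

open CategoryTheory CategoryTheory.Limits TopologicalSpace Opposite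

attribute [local instance] HasDerivedCategory.standard

noncomputable section

namespace K785.PushFilt2

open K29.RSec K29.RStalk K181.Good Groth.Agent.Etrest

variable {T₁ T₂ : TopCat.{u}} {O₁ : Sheaf (Opens.grothendieckTopology T₁) CommRingCat.{u}}
  {O₂ : Sheaf (Opens.grothendieckTopology T₂) CommRingCat.{u}} (f : ModSite.RMor O₁ O₂)
  {I : Type u} [SmallCategory I] [IsFiltered I]

theorem isCompact_of_le {V : Opens T₁} (hV : NoetherianSpace V) {W : Opens T₁} (h : W ≤ V) :
    IsCompact (W : Set T₁) := by
  have h1 : IsCompact ((Subtype.val : V → T₁) ⁻¹' (W : Set T₁)) := NoetherianSpace.isCompact _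
  have h2 := h1.image continuous_subtype_val
  have e : (Subtype.val : V → T₁) '' ((Subtype.val : V → T₁) ⁻¹' (W : Set T₁)) = (W : Set T₁) := by
    ext x
    constructor
    · rintro ⟨y, hy, rfl⟩
      exact hy
    · intro hx
      exact ⟨⟨x, h hx⟩, hx, rfl⟩
  rwa [e] at h2

/-- Sections of a filtered colimit over a Noetherian open come from a stage. -/
theorem exists_rep_noeth {D : I ⥤ Mod O₁} {c : Cocone D} (hc : IsColimit c) {V : Opens T₁} (hV : NoetherianSpace V)
    (s : Sec c.pt V) : ∃ (j : I) (t : Sec (D.obj j) V), app (inj c j) V t = s := by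
  refine exists_rep hc (fun {κ} W hW => ?_) s
  obtain ⟨S, hS⟩ := (isCompact_of_le hV le_rfl).elim_finite_subcover (fun k : κ => (W k : Set T₁))
    (fun k => (W k).isOpen) (by rw [← hW, Opens.coe_iSup])
  refine ⟨ULift.{u} S, inferInstance, fun i => W i.down, ?_, fun i => ⟨i.down, le_rfl⟩,
    fun i i' => isCompact_of_le hV (inf_le_left.trans (hW ▸ le_iSup W i.down))⟩
  refine le_antisymm (iSup_le fun i => hW ▸ le_iSup W i.down) fun x hx => ?_
  obtain ⟨k, hk, hxk⟩ := Set.mem_iUnion₂.1 (hS hx)
  exact Opens.mem_iSup.2 ⟨⟨⟨k, hk⟩⟩, hxk⟩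

variable (hf : ∀ (y : T₂) (V : Opens T₂), y ∈ V → ∃ V' : Opens T₂, y ∈ V' ∧ V' ≤ V ∧ NoetherianSpace (f.fn.obj V'))

include hf in
/-- `f_*` commutes with filtered colimits. -/
theorem isIso_post_push (D : I ⥤ Mod O₁) : IsIso (colimit.post D f.push) := by
  let hc := colimit.isColimit D
  let hc' := colimit.isColimit (D ⋙ f.push)
  have hθ : ∀ j, inj (colimit.cocone (D ⋙ f.push)) j ≫ colimit.post D f.push = f.push.map (inj (colimit.cocone D) j) :=
    fun j => colimit.ι_post D f.push j
  refine K29.RBasis.isIso_of_local _ fun x V hx => ?_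
  obtain ⟨V', hxV', hV'V, hN⟩ := hf x V hx
  refine ⟨V', hxV', hV'V, ?_, fun t => ?_⟩
  · rw [injective_iff_map_eq_zero]
    intro s hs
    refine eq_of_forall_nhds _ _ _ fun y hy => ?_
    obtain ⟨j, W, hyW, hWV, t, ht⟩ := exists_local_rep hc' s y hy
    refine ⟨W, hyW, hWV, ?_⟩
    have h1 : app (inj (colimit.cocone D) j) (f.fn.obj W) (show Sec (D.obj j) (f.fn.obj W) from t) = 0 := by
      have h2 : app (colimit.post D f.push) W (app (inj (colimit.cocone (D ⋙ f.push)) j) W t) = 0 := by
        rw [ht]
        exact (app_res (colimit.post D f.push) hWV s).trans ((congrArg _ hs).trans (map_zero _))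
      rw [← app_comp, hθ] at h2
      exact h2
    obtain ⟨k, φ, hk⟩ := exists_eq_zero hc (isCompact_of_le hN (f.fn.map (homOfLE hWV)).le) _ h1
    refine ht.symm.trans ?_
    rw [← map_inj (colimit.cocone (D ⋙ f.push)) φ, app_comp]
    have h3 : app ((D ⋙ f.push).map φ) W t = 0 := hk
    rw [h3, map_zero]
    exact (map_zero _).symm
  · obtain ⟨j, t', ht'⟩ := exists_rep_noeth hc hN (show Sec (colimit D) (f.fn.obj V') from t)
    refine ⟨app (inj (colimit.cocone (D ⋙ f.push)) j) V' (show Sec (f.push.obj (D.obj j)) V' from t'), ?_⟩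
    rw [← app_comp, hθ]
    exact ht'

include hf in
theorem preservesColimitsOfShape_push : PreservesColimitsOfShape I f.push where
  preservesColimit {D} := by
    have := isIso_post_push f hf D
    exact preservesColimit_of_isIso_post f.push D

/-- The cohomology of filtered colimits of injective modules vanishes on Noetherian opens. -/
theorem subsingleton_HU (D : I ⥤ Mod O₁) (hD : ∀ j, Injective (D.obj j)) (U : Opens T₁) (hU : NoetherianSpace U)
    (q : ℕ) : Subsingleton (ModSite.HU O₁ (colimit D) (q + 1) U) := by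
  have h1 : PreservesColimitsOfShape I
      ((Sheaf.cohomologyPresheafFunctor (Opens.grothendieckTopology T₁) (q + 1)).flip.obj (op U) :
        CohTop.Ab T₁ ⥤ AddCommGrpCat.{u}) := by
    exact Groth.Agent.FormalA.ColimOpen.preservesColimitsOfShape_cohomology U (isCompact_of_le hU le_rfl) (q + 1)
  have h2 : PreservesColimitsOfShape I (SheafOfModules.toSheaf.{u} (ModSite.ringSh O₁)) := inferInstance
  let G : Mod O₁ ⥤ AddCommGrpCat.{u} := SheafOfModules.toSheaf.{u} (ModSite.ringSh O₁) ⋙
    ((Sheaf.cohomologyPresheafFunctor (Opens.grothendieckTopology T₁) (q + 1)).flip.obj (op U) :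
        CohTop.Ab T₁ ⥤ AddCommGrpCat.{u})
  have h3 : PreservesColimitsOfShape I G := comp_preservesColimitsOfShape _ _
  have h4 : ∀ j, IsZero (G.obj (D.obj j)) := fun j => by
    have := hD j
    have hfl : TopCat.Sheaf.IsFlasque (ModSite.toAb (D.obj j)) :=
      { epi := fun {V W} i => by
          rw [AddCommGrpCat.epi_iff_surjective]
          intro s
          exact K181.PushCoprod.res_surjective_of_injective (D.obj j) (leOfHom i.unop) s }
    have h5 : Subsingleton (CohTop.HU (ModSite.toAb (D.obj j)) (q + 1) U) :=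
      Groth.Agent.S0452.result (ModSite.toAb (D.obj j)) U q
    exact AddCommGrpCat.isZero_of_subsingleton (AddCommGrpCat.of (CohTop.HU (ModSite.toAb (D.obj j)) (q + 1) U))
  have h6 : IsColimit (G.mapCocone (colimit.cocone D)) := isColimitOfPreserves G (colimit.isColimit D)
  have h7 : IsZero (G.obj (colimit D)) := by
    rw [IsZero.iff_id_eq_zero]
    exact h6.hom_ext fun j => (h4 j).eq_of_src _ _
  exact AddCommGrpCat.subsingleton_of_isZero h7

include hf in
/-- Filtered colimits of injectives are acyclic for `f_*`. -/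
theorem isAcyc_colimit (D : I ⥤ Mod O₁) (hD : ∀ j, Injective (D.obj j)) :
    haveI := K578.Der.enoughInjectives O₁
    RDer2.IsAcyc f.push (colimit D) := by
  have := K578.Der.enoughInjectives O₁
  intro q
  have : SiteCmp.HasRpushD f := K578.Der.hasRpushD f
  have h2 := (K578.LocZero.isZero_homologySingle_of_local f (colimit D) (q + 1)
    {V' : Opens T₂ | NoetherianSpace (f.fn.obj V')}
    (K181.PushVan.exists_cover _ (fun U y hy => by
      obtain ⟨V', h1, h2, h3⟩ := hf y U hy
      exact ⟨V', h3, h1, h2⟩))
    (fun W hW => subsingleton_HU D hD (f.fn.obj W) hW q))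
  exact h2.of_iso (K578.RpushSingle.homologySingle f (colimit D) (q + 1)).symm

include hf in
/-- **`R^q f_*` commutes with filtered colimits.** -/
theorem preservesColimitsOfShape_Rpush [HasInjectiveResolutions (ModSite.Mod O₁)] (q : ℕ) :
    PreservesColimitsOfShape I (f.Rpush q) := by
  have hA : IsGrothendieckAbelian.{u} (ModSite.Mod O₁) := Groth.Agent.S0484.result _ (ModSite.ringSh O₁)
  have := K578.Der.enoughInjectives O₁
  have := preservesColimitsOfShape_push (I := I) f hf
  have hfl : PreservesFiniteLimits f.push := K578.LocZero.preservesFiniteLimits_push f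
  have hex : HasExactColimitsOfShape I (ModSite.Mod O₁) := inferInstance
  exact FiltDer.preservesColimitsOfShape_rightDerived f.push (fun J hJ => isAcyc_colimit f hf J hJ) q

end K785.PushFilt2
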