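import Groth.Agent.SiteCmp.K578.RpushSingle
import Mathlib.Algebra.Homology.DerivedCategory.FullyFaithful

/-!
# `Rf_*` and `f^*` on shifted single modules, naturally
-/

set_option autoImplicit false
universe u

open CategoryTheory CategoryTheory.Limits Opposite DerivedCategory

attribute [local instance] HasDerivedCategory.standard

namespace K785.SingleIso

open Groth.Agent.Etrest.RDer3 K578.RpushSingle

variable {C : Type u} [SmallCategory C] {J : GrothendieckTopology C} {O_C : Sheaf J CommRingCat.{u}}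
    {D : Type u} [SmallCategory D] {K : GrothendieckTopology D} {O_D : Sheaf K CommRingCat.{u}}
    (f : ModSite.RMor O_C O_D)

/-- `H^j (Rf_* (M[i])) ≅ R^n f_* M`, natural in `M`, `n = i + j`. -/
theorem nonempty_push [SiteCmp.HasRpushD f] [HasInjectiveResolutions (ModSite.Mod O_C)] (i j : ℤ) (n : ℕ)
    (h : i + j = n) :
    Nonempty (singleFunctor (ModSite.Mod O_C) 0 ⋙ shiftFunctor (DerivedCategory (ModSite.Mod O_C)) i ⋙
      SiteCmp.RpushD f ⋙ homologyFunctor (ModSite.Mod O_D) j ≅ f.push.rightDerived n) := by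
  have := hasKInj' O_C
  have := K578.Der.enoughInjectives O_C
  let _ := K578.Der.rpushCommShift f
  have := K578.Der.rpush_isTriangulated f
  let e1 : shiftFunctor (DerivedCategory (ModSite.Mod O_C)) i ⋙ SiteCmp.RpushD f ⋙
      homologyFunctor (ModSite.Mod O_D) j ≅ TR f.push ⋙ homologyFunctor (ModSite.Mod O_D) (n : ℤ) :=
    (Functor.associator _ _ _).symm ≪≫ Functor.isoWhiskerRight ((SiteCmp.RpushD f).commShiftIso i) _ ≪≫
      Functor.associator _ _ _ ≪≫
      Functor.isoWhiskerLeft (SiteCmp.RpushD f) ((homologyFunctor (ModSite.Mod O_D) 0).shiftIso i j (n : ℤ)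
        h) ≪≫ Functor.isoWhiskerRight (rpushTR f) _
  exact ⟨Functor.isoWhiskerLeft _ e1 ≪≫ HTRsingle f.push n⟩

/-- `f^* (M[i]) ≅ (f^* M)[i]`, natural in `M`. -/
theorem nonempty_pull [PreservesFiniteLimits f.pull] (i : ℤ) :
    Nonempty (singleFunctor (ModSite.Mod O_D) 0 ⋙ shiftFunctor (DerivedCategory (ModSite.Mod O_D)) i ⋙
      SiteCmp.pullD f ≅ f.pull ⋙ singleFunctor (ModSite.Mod O_C) 0 ⋙
        shiftFunctor (DerivedCategory (ModSite.Mod O_C)) i) :=
  ⟨Functor.isoWhiskerLeft _ ((SiteCmp.pullD f).commShiftIso i) ≪≫ (Functor.associator _ _ _).symm ≪≫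
    Functor.isoWhiskerRight (f.pull.mapDerivedCategorySingleFunctor 0) _ ≪≫ Functor.associator _ _ _⟩

end K785.SingleIso
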