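import Groth.Agent.FCompl.K29.RExact
import Groth.Agent.CohtopB.TopStalk
import Groth.Agent.Ega1.ModToSheaf
import Mathlib.CategoryTheory.Triangulated.HomologicalFunctor

/-!
# Stalk functors on modules over a ringed space

* `stF x : Mod R ⥤ Ab`, exact; `isIso_of_stF`;
* `subsingleton_stF_pull`: the stalk of an inverse image vanishes if the stalk of the module does;
* `isHomological_comp`.
-/

set_option autoImplicit false
universe u

open CategoryTheory CategoryTheory.Limits TopologicalSpace Opposite

noncomputable section

namespace K785.StF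

open K29.RSec K29.RStalk K29.RExact Groth.Agent.CohtopB.TopPull Groth.Agent.CohtopB.TopStalk

section Homological

open Pretriangulated

/-- The composition of a homological functor with an exact functor is homological. -/
theorem isHomological_comp {C : Type*} [Category* C] [HasShift C ℤ] [Preadditive C] [HasZeroObject C]
    [∀ n : ℤ, (shiftFunctor C n).Additive] [Pretriangulated C] {A A' : Type*} [Category* A] [Abelian A]
    [Category* A'] [Abelian A'] (H : C ⥤ A) [H.IsHomological] (h : A ⥤ A') [h.Additive]
    [PreservesFiniteLimits h] [PreservesFiniteColimits h] : (H ⋙ h).IsHomological where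
  exact T hT := (H.map_distinguished_exact T hT).map h

end Homological

variable {T : TopCat.{u}} {R : Sheaf (Opens.grothendieckTopology T) CommRingCat.{u}}

/-- The stalk functor. -/
def stF (x : T) : Mod R ⥤ AddCommGrpCat.{u} := SheafOfModules.toSheaf.{u} (ModSite.ringSh R) ⋙ stalkF x

instance (x : T) : (stF (R := R) x).Additive := by
  unfold stF
  infer_instance

instance (x : T) : PreservesFiniteColimits (stF (R := R) x) := by
  unfold stF
  exact comp_preservesFiniteColimits _ _

instance (x : T) : PreservesFiniteLimits (stF (R := R) x) := by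
  unfold stF
  exact comp_preservesFiniteLimits _ _

theorem preservesColimitsOfShape_stF (x : T) (J : Type u) [SmallCategory J] :
    PreservesColimitsOfShape J (stF (R := R) x) := by
  have h2 : PreservesColimitsOfShape J (SheafOfModules.toSheaf.{u} (ModSite.ringSh R)) := inferInstance
  have h3 : PreservesColimitsOfShape J (stalkF (X := T) x) := inferInstance
  exact comp_preservesColimitsOfShape _ _

theorem stF_map {M N : Mod R} (φ : M ⟶ N) (x : T) (s : St M x) :
    ((stF x).map φ : (stF x).obj M → (stF x).obj N) s = stMap φ x s := by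
  obtain ⟨V, hV, s, rfl⟩ := exists_gm M x s
  rw [stMap_gm]
  exact ConcreteCategory.congr_hom (germ_map ((SheafOfModules.toSheaf.{u} (ModSite.ringSh R)).map φ) V x hV) s

theorem isIso_of_stF {M N : Mod R} (φ : M ⟶ N) (h : ∀ x : T, Function.Bijective ((stF x).map φ)) : IsIso φ := by
  have h1 : ∀ x, Function.Bijective (stMap φ x) := fun x => by
    have e : (stMap φ x : St M x → St N x) = (stF x).map φ := funext fun s => (stF_map φ x s).symm
    rw [e]
    exact h x
  have : Mono φ := (mono_iff_stMap φ).2 fun x => (h1 x).1
  have : Epi φ := (epi_iff_stMap φ).2 fun x => (h1 x).2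
  exact isIso_of_mono_of_epi φ

section Pull

open K29.RPull

variable {T1 : TopCat.{u}} {f : T1 ⟶ T} {R1 : Sheaf (Opens.grothendieckTopology T1) CommRingCat.{u}}
  {φ : ringSheaf R ⟶ ((Opens.map f).sheafPushforwardContinuous RingCat.{u} (Opens.grothendieckTopology T)
    (Opens.grothendieckTopology T1)).obj (ringSheaf R1)}
  {L : Mod R ⥤ Mod R1} (adj : L ⊣ push φ)

include adj in
theorem subsingleton_pull (M : Mod R) (y : T1) (h : Subsingleton (St M (f y))) : Subsingleton (St (L.obj M) y) := by
  have h1 := span_range_can adj M y
  have h2 : Set.range (can adj M y) ⊆ {0} := by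
    rintro _ ⟨t, rfl⟩
    rw [Subsingleton.elim t 0, map_zero]
    rfl
  have h3 : (⊤ : Submodule (StO R1 y) (St (L.obj M) y)) ≤ ⊥ := by
    rw [← h1]
    exact Submodule.span_le.2 h2
  refine ⟨fun a b => ?_⟩
  have ha : a ∈ (⊥ : Submodule (StO R1 y) (St (L.obj M) y)) := h3 Submodule.mem_top
  have hb : b ∈ (⊥ : Submodule (StO R1 y) (St (L.obj M) y)) := h3 Submodule.mem_top
  rw [Submodule.mem_bot] at ha hb
  rw [ha, hb]

end Pull

end K785.StF
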