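import Groth.Agent.FSch.K785.HomDev
import Groth.Agent.FSch.K785.StF
import Groth.Agent.FSch.K785.BCAbs
import Groth.Agent.FSch.K785.SingleIso
import Groth.Agent.FSch.K785.PushFilt2
import Groth.Agent.FSch.K182.PushColim
import Groth.Agent.FTors.K920.ExDer
import Mathlib.CategoryTheory.ObjectProperty.Ind

/-!
# From coherent modules to unbounded complexes, for the base change morphism `c^* Rf_* ⟶ Rb_* a^*`
-/

set_option autoImplicit false
universe u

open CategoryTheory CategoryTheory.Limits Opposite DerivedCategory TopologicalSpace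

attribute [local instance] HasDerivedCategory.standard

noncomputable section

namespace K785.WayOut

open K29.RSec K29.RStalk K29.RExact K785.StF Groth.Agent.Dcoh.MapDer K920.ExDer

variable {T₁ T₂ T₃ T₄ : TopCat.{u}} {O₁ : Sheaf (Opens.grothendieckTopology T₁) CommRingCat.{u}}
  {O₂ : Sheaf (Opens.grothendieckTopology T₂) CommRingCat.{u}}
  {O₃ : Sheaf (Opens.grothendieckTopology T₃) CommRingCat.{u}}
  {O₄ : Sheaf (Opens.grothendieckTopology T₄) CommRingCat.{u}}

/-- Small Noetherian inverse images. -/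
def Small (f : ModSite.RMor O₁ O₂) : Prop :=
  ∀ (y : T₂) (V : Opens T₂), y ∈ V → ∃ V' : Opens T₂, y ∈ V' ∧ V' ≤ V ∧ NoetherianSpace (f.fn.obj V')

section Pres

variable (f : ModSite.RMor O₂ O₄) (c : ModSite.RMor O₃ O₄) [SiteCmp.HasRpushD f] [PreservesFiniteLimits c.pull]

/-- `M ↦ (H^j (c^* Rf_* M[i]))_y` preserves filtered colimits. -/
theorem preserves₁ (hf : Small f) (y : T₃) (i j : ℤ) (n : ℕ) (h : i + j = n) (J : Type u) [SmallCategory J]
    [IsFiltered J] :
    PreservesColimitsOfShape J (singleFunctor (ModSite.Mod O₂) 0 ⋙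
      shiftFunctor (DerivedCategory (ModSite.Mod O₂)) i ⋙ (SiteCmp.RpushD f ⋙ SiteCmp.pullD c) ⋙
        homologyFunctor (ModSite.Mod O₃) j ⋙ stF y) := by
  have i0 := K578.Der.hasInjectiveResolutions O₂
  obtain ⟨e⟩ := SingleIso.nonempty_push f i j n h
  have i1 : PreservesColimitsOfShape J (f.push.rightDerived n) :=
    PushFilt2.preservesColimitsOfShape_Rpush (I := J) f hf n
  have i2 : PreservesColimitsOfShape J c.pull :=
    (c.adj.leftAdjoint_preservesColimits : PreservesColimitsOfSize.{u, u} c.pull).preservesColimitsOfShape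
  have i3 := preservesColimitsOfShape_stF (R := O₃) y J
  have i4 : PreservesColimitsOfShape J ((f.push.rightDerived n) ⋙ (c.pull ⋙ stF y)) :=
    have := comp_preservesColimitsOfShape (J := J) c.pull (stF (R := O₃) y)
    comp_preservesColimitsOfShape _ _
  let e' : singleFunctor (ModSite.Mod O₂) 0 ⋙
      shiftFunctor (DerivedCategory (ModSite.Mod O₂)) i ⋙ (SiteCmp.RpushD f ⋙ SiteCmp.pullD c) ⋙
        homologyFunctor (ModSite.Mod O₃) j ⋙ stF y ≅ (f.push.rightDerived n) ⋙ (c.pull ⋙ stF y) :=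
    Functor.isoWhiskerRight (Functor.isoWhiskerLeft (singleFunctor (ModSite.Mod O₂) 0 ⋙
      shiftFunctor (DerivedCategory (ModSite.Mod O₂)) i ⋙ SiteCmp.RpushD f) (homologyMapDer c.pull j)) (stF y) ≪≫
    Functor.isoWhiskerRight e (c.pull ⋙ stF y)
  exact preservesColimitsOfShape_of_natIso e'.symm

variable (a : ModSite.RMor O₁ O₂) (b : ModSite.RMor O₁ O₃) [SiteCmp.HasRpushD b] [PreservesFiniteLimits a.pull]

/-- `M ↦ (H^j (Rb_* a^* M[i]))_y` preserves filtered colimits. -/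
theorem preserves₂ (hb : Small b) (y : T₃) (i j : ℤ) (n : ℕ) (h : i + j = n) (J : Type u) [SmallCategory J]
    [IsFiltered J] :
    PreservesColimitsOfShape J (singleFunctor (ModSite.Mod O₂) 0 ⋙
      shiftFunctor (DerivedCategory (ModSite.Mod O₂)) i ⋙ (SiteCmp.pullD a ⋙ SiteCmp.RpushD b) ⋙
        homologyFunctor (ModSite.Mod O₃) j ⋙ stF y) := by
  have i0 := K578.Der.hasInjectiveResolutions O₁
  obtain ⟨e⟩ := SingleIso.nonempty_push b i j n h
  obtain ⟨e2⟩ := SingleIso.nonempty_pull a i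
  have i1 : PreservesColimitsOfShape J (b.push.rightDerived n) :=
    PushFilt2.preservesColimitsOfShape_Rpush (I := J) b hb n
  have i2 : PreservesColimitsOfShape J a.pull :=
    (a.adj.leftAdjoint_preservesColimits : PreservesColimitsOfSize.{u, u} a.pull).preservesColimitsOfShape
  have i3 := preservesColimitsOfShape_stF (R := O₃) y J
  have i4 : PreservesColimitsOfShape J (a.pull ⋙ (b.push.rightDerived n ⋙ stF y)) :=
    have := comp_preservesColimitsOfShape (J := J) (b.push.rightDerived n) (stF (R := O₃) y)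
    comp_preservesColimitsOfShape _ _
  let e' : singleFunctor (ModSite.Mod O₂) 0 ⋙
      shiftFunctor (DerivedCategory (ModSite.Mod O₂)) i ⋙ (SiteCmp.pullD a ⋙ SiteCmp.RpushD b) ⋙
        homologyFunctor (ModSite.Mod O₃) j ⋙ stF y ≅ a.pull ⋙ (b.push.rightDerived n ⋙ stF y) :=
    Functor.isoWhiskerRight e2 (SiteCmp.RpushD b ⋙ homologyFunctor (ModSite.Mod O₃) j ⋙ stF y) ≪≫
    Functor.isoWhiskerLeft a.pull (Functor.isoWhiskerRight e (stF y))
  exact preservesColimitsOfShape_of_natIso e'.symm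

end Pres

section Main

variable (a : ModSite.RMor O₁ O₂) (f : ModSite.RMor O₂ O₄) (b : ModSite.RMor O₁ O₃) (c : ModSite.RMor O₃ O₄)
  [SiteCmp.HasRpushD f] [SiteCmp.HasRpushD b] [PreservesFiniteLimits a.pull] [PreservesFiniteLimits c.pull]
  (β : SiteCmp.RpushD f ⋙ SiteCmp.pullD c ⟶ SiteCmp.pullD a ⋙ SiteCmp.RpushD b)

/-- The stalk of `H^j(c^* Rf_* G)`. -/
def H₁ (y : T₃) (j : ℤ) : DerivedCategory (ModSite.Mod O₂) ⥤ AddCommGrpCat.{u} :=
  (SiteCmp.RpushD f ⋙ SiteCmp.pullD c) ⋙ homologyFunctor (ModSite.Mod O₃) j ⋙ stF y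

/-- The stalk of `H^j(Rb_* a^* G)`. -/
def H₂ (y : T₃) (j : ℤ) : DerivedCategory (ModSite.Mod O₂) ⥤ AddCommGrpCat.{u} :=
  (SiteCmp.pullD a ⋙ SiteCmp.RpushD b) ⋙ homologyFunctor (ModSite.Mod O₃) j ⋙ stF y

instance isHomological₁ (y : T₃) (j : ℤ) : (H₁ f c y j).IsHomological := by
  let _ := K578.Der.rpushCommShift f
  have := K578.Der.rpush_isTriangulated f
  have h1 : (homologyFunctor (ModSite.Mod O₃) j ⋙ stF y).IsHomological := isHomological_comp _ _
  have h2 : (SiteCmp.RpushD f ⋙ SiteCmp.pullD c).IsTriangulated := inferInstance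
  exact inferInstanceAs ((SiteCmp.RpushD f ⋙ SiteCmp.pullD c) ⋙
    (homologyFunctor (ModSite.Mod O₃) j ⋙ stF y)).IsHomological

instance isHomological₂ (y : T₃) (j : ℤ) : (H₂ a b y j).IsHomological := by
  let _ := K578.Der.rpushCommShift b
  have := K578.Der.rpush_isTriangulated b
  have h1 : (homologyFunctor (ModSite.Mod O₃) j ⋙ stF y).IsHomological := isHomological_comp _ _
  have h2 : (SiteCmp.pullD a ⋙ SiteCmp.RpushD b).IsTriangulated := inferInstance
  exact inferInstanceAs ((SiteCmp.pullD a ⋙ SiteCmp.RpushD b) ⋙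
    (homologyFunctor (ModSite.Mod O₃) j ⋙ stF y)).IsHomological

/-- `(H^j(c^* Rf_* G[i]))_y = 0` for `i + j < m`, `G ∈ D^{≥ m}`. -/
theorem low₁ (y : T₃) (j : ℤ) (G : DerivedCategory (ModSite.Mod O₂)) (m : ℤ) (hG : G.IsGE m) (i : ℤ) (h : i + j < m) :
    Subsingleton ((H₁ f c y j).obj (G⟦i⟧)) := by
  have h1 : (G⟦i⟧).IsGE (m - i) := TStructure.t.isGE_shift G m i (m - i) (by lia)
  have h2 := K578.RpushSingle.lte f (G⟦i⟧) (m - i) h1
  have h3 : IsZero ((homologyFunctor (ModSite.Mod O₄) j).obj ((SiteCmp.RpushD f).obj (G⟦i⟧))) :=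
    isZero_of_isGE _ (m - i) j (by lia)
  have h4 : IsZero ((homologyFunctor (ModSite.Mod O₃) j).obj ((SiteCmp.pullD c).obj
      ((SiteCmp.RpushD f).obj (G⟦i⟧)))) :=
    (c.pull.map_isZero h3).of_iso ((homologyMapDer c.pull j).app _)
  exact AddCommGrpCat.subsingleton_of_isZero ((stF y).map_isZero h4)

/-- `(H^j(Rb_* a^* G[i]))_y = 0` for `i + j < m`, `G ∈ D^{≥ m}`. -/
theorem low₂ (y : T₃) (j : ℤ) (G : DerivedCategory (ModSite.Mod O₂)) (m : ℤ) (hG : G.IsGE m) (i : ℤ) (h : i + j < m) :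
    Subsingleton ((H₂ a b y j).obj (G⟦i⟧)) := by
  have h1 : (G⟦i⟧).IsGE (m - i) := TStructure.t.isGE_shift G m i (m - i) (by lia)
  have h0 : ((SiteCmp.pullD a).obj (G⟦i⟧)).IsGE (m - i) := by
    rw [isGE_iff]
    intro k hk
    exact (a.pull.map_isZero (isZero_of_isGE _ (m - i) k hk)).of_iso ((homologyMapDer a.pull k).app _)
  have h2 := K578.RpushSingle.lte b _ (m - i) h0
  have h3 : IsZero ((homologyFunctor (ModSite.Mod O₃) j).obj ((SiteCmp.RpushD b).obj
      ((SiteCmp.pullD a).obj (G⟦i⟧)))) :=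
    isZero_of_isGE _ (m - i) j (by lia)
  exact AddCommGrpCat.subsingleton_of_isZero ((stF y).map_isZero h3)

/-- The transformation on stalks. -/
def τ (y : T₃) (j : ℤ) : H₁ f c y j ⟶ H₂ a b y j :=
  Functor.whiskerRight β (homologyFunctor (ModSite.Mod O₃) j ⋙ stF y)

/-- `M ↦ M[i]`. -/
def sg (O : Sheaf (Opens.grothendieckTopology T₂) CommRingCat.{u}) (i : ℤ) :
    ModSite.Mod O ⥤ DerivedCategory (ModSite.Mod O) :=
  singleFunctor (ModSite.Mod O) 0 ⋙ shiftFunctor (DerivedCategory (ModSite.Mod O)) i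

theorem isIso_τ (y : T₃) (j : ℤ) (G : DerivedCategory (ModSite.Mod O₂))
    (h : IsIso ((homologyFunctor (ModSite.Mod O₃) j).map (β.app G))) : IsIso ((τ a f b c β y j).app G) :=
  inferInstanceAs (IsIso ((stF y).map ((homologyFunctor (ModSite.Mod O₃) j).map (β.app G))))

theorem pres₁ (hf : Small f) (y : T₃) (i j : ℤ) (n : ℕ) (h : i + j = n) (J : Type u) [SmallCategory J]
    [IsFiltered J] : PreservesColimitsOfShape J (sg O₂ i ⋙ H₁ f c y j) := preserves₁ f c hf y i j n h J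

theorem pres₂ (hb : Small b) (y : T₃) (i j : ℤ) (n : ℕ) (h : i + j = n) (J : Type u) [SmallCategory J]
    [IsFiltered J] : PreservesColimitsOfShape J (sg O₂ i ⋙ H₂ a b y j) := preserves₂ a b hb y i j n h J

/-- Passage to filtered colimits. -/
theorem isIso_single (P : ObjectProperty (ModSite.Mod O₂)) (hf : Small f) (hb : Small b) (y : T₃)
    (i j : ℤ) (hij : 0 ≤ i + j)
    (hcoh : ∀ M, P M → IsIso ((homologyFunctor (ModSite.Mod O₃) j).map (β.app ((sg O₂ i).obj M))))
    (M : ModSite.Mod O₂) (hM : ObjectProperty.ind.{u} P M) :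
    IsIso ((τ a f b c β y j).app ((sg O₂ i).obj M)) := by
  obtain ⟨n, hn⟩ := Int.eq_ofNat_of_zero_le hij
  obtain ⟨J, _, _, pres, hP⟩ := hM
  have p1 : PreservesColimitsOfShape J (sg O₂ i ⋙ H₁ f c y j) := pres₁ f c hf y i j n hn J
  have p2 : PreservesColimitsOfShape J (sg O₂ i ⋙ H₂ a b y j) := pres₂ a b hb y i j n hn J
  have key := K182.PushColim.isIso_app_of_isColimit (Functor.whiskerLeft (sg O₂ i) (τ a f b c β y j)) pres.isColimit
    fun k => isIso_τ a f b c β y j _ (hcoh (pres.diag.obj k) (hP k))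
  exact key

/-- Bijectivity on single modules. -/
theorem bij_single (Q P : ObjectProperty (ModSite.Mod O₂))
    (hQ : ∀ M, Q M → ObjectProperty.ind.{u} P M) (hf : Small f) (hb : Small b)
    (hcoh : ∀ M, P M → ∀ i j : ℤ, 0 ≤ i + j →
      IsIso ((homologyFunctor (ModSite.Mod O₃) j).map (β.app ((sg O₂ i).obj M)))) (y : T₃) (j : ℤ)
    (M : ModSite.Mod O₂) (hM : Q M) : HomDev.Bij (τ a f b c β y j) ((singleFunctor (ModSite.Mod O₂) 0).obj M) := by
  intro i
  by_cases hij : 0 ≤ i + j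
  · have key := isIso_single a f b c β P hf hb y i j hij (fun M hM => hcoh M hM i j hij) M (hQ M hM)
    have k2 := (ConcreteCategory.isIso_iff_bijective ((τ a f b c β y j).app ((sg O₂ i).obj M))).1 key
    exact k2
  · have h1 := low₁ f c y j ((singleFunctor (ModSite.Mod O₂) 0).obj M) 0 inferInstance i (by lia)
    have h2 := low₂ a b y j ((singleFunctor (ModSite.Mod O₂) 0).obj M) 0 inferInstance i (by lia)
    exact ⟨fun _ _ _ => h1.elim _ _, fun x => ⟨0, h2.elim _ _⟩⟩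

theorem sub₁ (y : T₃) (j : ℤ) (G : DerivedCategory (ModSite.Mod O₂))
    (h : Subsingleton (St ((homologyFunctor (ModSite.Mod O₃) j).obj
        ((SiteCmp.pullD c).obj ((SiteCmp.RpushD f).obj G))) y)) : Subsingleton ((H₁ f c y j).obj G) := h

theorem sub₂ (y : T₃) (j : ℤ) (G : DerivedCategory (ModSite.Mod O₂))
    (h : Subsingleton (St ((homologyFunctor (ModSite.Mod O₃) j).obj
        ((SiteCmp.RpushD b).obj ((SiteCmp.pullD a).obj G))) y)) : Subsingleton ((H₂ a b y j).obj G) := h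

theorem arith' (m i : ℤ) : i + (m - i) = m := by lia

theorem arith (e₁ e₂ : ℕ) (m i j : ℤ) (h : m + (max (e₁ : ℤ) e₂ - j) < i) : m - i + e₁ < j ∧ m - i + e₂ < j := by
  have h1 := le_max_left (e₁ : ℤ) e₂
  have h2 := le_max_right (e₁ : ℤ) e₂
  constructor <;> lia

/-- **Way-out argument.** -/
theorem isIso_app (Q P : ObjectProperty (ModSite.Mod O₂)) [WSerre.IsWeakSerre Q]
    (hQ : ∀ M, Q M → ObjectProperty.ind.{u} P M) (hf : Small f) (hb : Small b)
    (hcoh : ∀ M, P M → ∀ i j : ℤ, 0 ≤ i + j →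
      IsIso ((homologyFunctor (ModSite.Mod O₃) j).map (β.app ((sg O₂ i).obj M))))
    (hb₁ : ∀ y : T₃, ∃ e : ℕ, ∀ (G : DerivedCategory (ModSite.Mod O₂)) (m : ℤ), WSerre.cohIn Q G → G.IsLE m →
      ∀ i : ℤ, m + e < i → Subsingleton (St ((homologyFunctor (ModSite.Mod O₃) i).obj
        ((SiteCmp.pullD c).obj ((SiteCmp.RpushD f).obj G))) y))
    (hb₂ : ∀ y : T₃, ∃ e : ℕ, ∀ (G : DerivedCategory (ModSite.Mod O₂)) (m : ℤ), WSerre.cohIn Q G → G.IsLE m →
      ∀ i : ℤ, m + e < i → Subsingleton (St ((homologyFunctor (ModSite.Mod O₃) i).obj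
        ((SiteCmp.RpushD b).obj ((SiteCmp.pullD a).obj G))) y))
    (E : DerivedCategory (ModSite.Mod O₂)) (hE : WSerre.cohIn Q E) : IsIso (β.app E) := by
  rw [DerivedCategory.isIso_iff]
  intro j
  refine isIso_of_stF _ fun y => ?_
  obtain ⟨e₁, he₁⟩ := hb₁ y
  obtain ⟨e₂, he₂⟩ := hb₂ y
  have key : HomDev.Bij (τ a f b c β y j) E := by
    refine HomDev.bij (τ a f b c β y j) Q (max (e₁ : ℤ) e₂ - j) j
      (fun M hM => bij_single a f b c β Q P hQ hf hb hcoh y j M hM) (fun G m hG hm i hi => ?_)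
      (fun G m hG hm i hi => ?_) (fun G m hm i hi => low₁ f c y j G m hm i hi)
      (fun G m hm i hi => low₂ a b y j G m hm i hi) E hE
    · have h1 : (G⟦i⟧).IsLE (m - i) := TStructure.t.isLE_shift G m i (m - i) (arith' m i)
      have h2 := K578.CohDev.cohIn_shift Q G i hG
      have h3 := he₁ (G⟦i⟧) (m - i) h2 h1 j (arith e₁ e₂ m i j hi).1
      exact sub₁ f c y j _ h3
    · have h1 : (G⟦i⟧).IsLE (m - i) := TStructure.t.isLE_shift G m i (m - i) (arith' m i)
      have h2 := K578.CohDev.cohIn_shift Q G i hG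
      have h3 := he₂ (G⟦i⟧) (m - i) h2 h1 j (arith e₁ e₂ m i j hi).2
      exact sub₂ a b y j _ h3
  have h0 := HomDev.bijective_iff_of_iso (τ a f b c β y j) ((shiftFunctorZero (DerivedCategory (ModSite.Mod O₂)) ℤ).app E)
  have h4 := h0.1 (key 0)
  exact h4

end Main

end K785.WayOut
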