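import Groth.Agent.FSch.K785.Sigma
import Groth.Agent.FSch.K785.WayOut

/-!
# Base change for unbounded complexes, general form
-/

set_option autoImplicit false
set_option backward.defeqAttrib.useBackward true
set_option backward.isDefEq.respectTransparency false
universe u

open CategoryTheory CategoryTheory.Limits Opposite DerivedCategory TopologicalSpace

attribute [local instance] HasDerivedCategory.standard

noncomputable section

namespace K785.BCGen

open K29.RSec K29.RStalk K29.RExact K785.StF K785.WayOut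

variable {T₁ T₂ T₃ T₄ : TopCat.{u}} {O₁ : Sheaf (Opens.grothendieckTopology T₁) CommRingCat.{u}}
  {O₂ : Sheaf (Opens.grothendieckTopology T₂) CommRingCat.{u}}
  {O₃ : Sheaf (Opens.grothendieckTopology T₃) CommRingCat.{u}}
  {O₄ : Sheaf (Opens.grothendieckTopology T₄) CommRingCat.{u}}
  (a : ModSite.RMor O₁ O₂) (f : ModSite.RMor O₂ O₄) (b : ModSite.RMor O₁ O₃) (c : ModSite.RMor O₃ O₄)
  [SiteCmp.HasRpushD f] [SiteCmp.HasRpushD b] [PreservesFiniteLimits a.pull] [PreservesFiniteLimits c.pull]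
  [PreservesFiniteColimits a.push] [PreservesFiniteColimits c.push]

/-- `R^n f_*` applied to the unit extends to an isomorphism. -/
def Theta [HasInjectiveResolutions (ModSite.Mod O₂)] (M : ModSite.Mod O₂) (n : ℕ) : Prop :=
  ∃ θ : c.push.obj (c.pull.obj ((f.Rpush n).obj M)) ≅ (f.Rpush n).obj (a.push.obj (a.pull.obj M)),
    c.adj.unit.app ((f.Rpush n).obj M) ≫ θ.hom = (f.Rpush n).map (a.adj.unit.app M)

/-- Morphisms `c_* N ⟶ c_* c^* G` are `c_* ψ`. -/
def Lift (G : ModSite.Mod O₄) : Prop :=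
  ∀ (N : ModSite.Mod O₃) (g : c.push.obj N ⟶ c.push.obj (c.pull.obj G)), ∃ ψ, c.push.map ψ = g

theorem isIso_coh [HasInjectiveResolutions (ModSite.Mod O₂)]
    (σ : a.push.mapDerivedCategory ⋙ SiteCmp.RpushD f ≅ SiteCmp.RpushD b ⋙ c.push.mapDerivedCategory)
    (M : ModSite.Mod O₂) (n : ℕ) (hθ : Theta a f c M n) (hlift : Lift c ((f.Rpush n).obj M))
    (hiso : ∀ (N N' : ModSite.Mod O₃) (ψ : N ⟶ N'), IsIso (c.push.map ψ) → IsIso ψ) (i j : ℤ) (hij : i + j = n) :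
    IsIso ((homologyFunctor (ModSite.Mod O₃) j).map ((BCAbs.beta a.adj c.adj σ).app ((sg O₂ i).obj M))) := by
  obtain ⟨a', -⟩ : ∃ _ : Nonempty (singleFunctor (ModSite.Mod O₂) 0 ⋙ shiftFunctor (DerivedCategory (ModSite.Mod O₂)) i ⋙
      SiteCmp.RpushD f ⋙ homologyFunctor (ModSite.Mod O₄) j ≅ f.push.rightDerived n), True :=
    ⟨SingleIso.nonempty_push f i j n hij, trivial⟩
  obtain ⟨a'⟩ := a'
  obtain ⟨θ, h1⟩ := hθ
  exact BCAbs.isIso_homology_beta a.adj c.adj σ (f.push.rightDerived n) i j a' M θ h1 hlift hiso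

/-- **Base change.** -/
theorem nonempty_iso [HasInjectiveResolutions (ModSite.Mod O₂)] (e : a.push ⋙ f.push ≅ b.push ⋙ c.push)
    (Q P : ObjectProperty (ModSite.Mod O₂)) [WSerre.IsWeakSerre Q]
    (hQ : ∀ M, Q M → ObjectProperty.ind.{u} P M) (hf : Small f) (hb : Small b)
    (hθ : ∀ M, P M → ∀ n, Theta a f c M n) (hlift : ∀ M, P M → ∀ n : ℕ, Lift c ((f.Rpush n).obj M))
    (hiso : ∀ (N N' : ModSite.Mod O₃) (ψ : N ⟶ N'), IsIso (c.push.map ψ) → IsIso ψ)
    (hb₁ : ∀ y : T₃, ∃ e : ℕ, ∀ (G : DerivedCategory (ModSite.Mod O₂)) (m : ℤ), WSerre.cohIn Q G → G.IsLE m →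
      ∀ i : ℤ, m + e < i → Subsingleton (St ((homologyFunctor (ModSite.Mod O₃) i).obj
        ((SiteCmp.pullD c).obj ((SiteCmp.RpushD f).obj G))) y))
    (hb₂ : ∀ y : T₃, ∃ e : ℕ, ∀ (G : DerivedCategory (ModSite.Mod O₂)) (m : ℤ), WSerre.cohIn Q G → G.IsLE m →
      ∀ i : ℤ, m + e < i → Subsingleton (St ((homologyFunctor (ModSite.Mod O₃) i).obj
        ((SiteCmp.RpushD b).obj ((SiteCmp.pullD a).obj G))) y))
    (E : DerivedCategory (ModSite.Mod O₂)) (hE : WSerre.cohIn Q E) :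
    Nonempty ((SiteCmp.pullD c).obj ((SiteCmp.RpushD f).obj E) ≅ (SiteCmp.RpushD b).obj ((SiteCmp.pullD a).obj E)) := by
  obtain ⟨σ⟩ := Sigma.nonempty_sigma a f b c e
  have key : IsIso ((BCAbs.beta a.adj c.adj σ).app E) :=
    WayOut.isIso_app a f b c (BCAbs.beta a.adj c.adj σ) Q P hQ hf hb (fun M hM i j hij => by
      obtain ⟨n, hn⟩ := Int.eq_ofNat_of_zero_le hij
      exact isIso_coh a f b c σ M n (hθ M hM n) (hlift M hM n) hiso i j hn) hb₁ hb₂ E hE
  exact ⟨@asIso _ _ _ _ _ key⟩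

end K785.BCGen
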