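import Groth.Agent.Dcoh.MapDer
import Groth.Agent.Dcoh.DerAdj
import Mathlib.CategoryTheory.Localization.Adjunction
import Mathlib.Algebra.Homology.DerivedCategory.FullyFaithful

/-!
# The adjunction on derived categories of an adjunction between exact functors

`L ⊣ R` with `L : B ⥤ A`, `R : A ⥤ B` exact functors between abelian categories.
* `adjD : L.mapDerivedCategory ⊣ R.mapDerivedCategory`;
* `homology_unit`: on cohomology, the unit of `adjD` is the unit of `L ⊣ R`;
* `unit_homology`: on cohomology, adjoint morphisms are adjoint;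
* `isIso_of_lift`: a criterion for `H^n(b)`, `b : L K ⟶ M`, to be an isomorphism, from the adjoint morphism.
-/

set_option autoImplicit false
set_option backward.defeqAttrib.useBackward true
set_option backward.isDefEq.respectTransparency false

universe w₁ w₂ v₁ v₂ u₁ u₂

open CategoryTheory CategoryTheory.Limits Category

noncomputable section

namespace K785.ExAdj

open Groth.Agent.Dcoh.MapDer Groth.Agent.Dcoh.DerAdj

variable {B : Type u₁} [Category.{v₁} B] [Abelian B] {A : Type u₂} [Category.{v₂} A] [Abelian A]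
  {L : B ⥤ A} {R : A ⥤ B} (adj : L ⊣ R) [L.Additive] [R.Additive]
  [PreservesFiniteLimits L] [PreservesFiniteColimits L] [PreservesFiniteLimits R] [PreservesFiniteColimits R]

section Homology

/-- The unit on short complexes. -/
@[simps]
def unitSc (S : ShortComplex B) : S ⟶ (S.map L).map R where
  τ₁ := adj.unit.app S.X₁
  τ₂ := adj.unit.app S.X₂
  τ₃ := adj.unit.app S.X₃
  comm₁₂ := (adj.unit.naturality S.f).symm
  comm₂₃ := (adj.unit.naturality S.g).symm

lemma homology_sc (S : ShortComplex B) :
    ShortComplex.homologyMap (unitSc adj S) ≫ ((S.map L).mapHomologyIso R).hom ≫ R.map (S.mapHomologyIso L).hom =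
      adj.unit.app S.homology := by
  let h := S.homologyData.left
  let γ : ShortComplex.LeftHomologyMapData (unitSc adj S) h ((h.map L).map R) :=
    { φK := adj.unit.app h.K
      φH := adj.unit.app h.H
      commi := (adj.unit.naturality h.i).symm
      commf' := by
        have h1 : ((h.map L).map R).f' = R.map (L.map h.f') := by
          rw [← cancel_mono ((h.map L).map R).i, ShortComplex.LeftHomologyData.f'_i]
          dsimp
          rw [← R.map_comp, ← L.map_comp, ShortComplex.LeftHomologyData.f'_i]
        rw [h1]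
        exact adj.unit.naturality h.f'
      commπ := adj.unit.naturality h.π }
  have h2 := γ.homologyMap_comm
  have e2 := (h.map L).mapHomologyIso_eq R
  have e3 := h.mapHomologyIso_eq L
  have e4 : ((S.map L).mapHomologyIso R).hom ≫ R.map (S.mapHomologyIso L).hom =
      ((h.map L).map R).homologyIso.hom ≫ R.map (L.map h.homologyIso.inv) := by
    rw [e2, e3]
    simp only [Iso.trans_hom, Functor.mapIso_hom, Iso.symm_hom, assoc, Functor.map_comp]
    rw [← R.map_comp_assoc, Iso.inv_hom_id, R.map_id, id_comp]
  rw [e4, reassoc_of% h2]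
  have h5 := adj.unit.naturality h.homologyIso.inv
  dsimp only [Functor.id_map, Functor.comp_map] at h5
  change h.homologyIso.hom ≫ adj.unit.app h.H ≫ R.map (L.map h.homologyIso.inv) = _
  rw [← h5, Iso.hom_inv_id_assoc]

end Homology

variable [HasDerivedCategory.{w₁} B] [HasDerivedCategory.{w₂} A]

open DerivedCategory

/-- The adjunction on derived categories. -/
def adjD : L.mapDerivedCategory ⊣ R.mapDerivedCategory :=
  letI : CatCommSq (L.mapHomologicalComplex (ComplexShape.up ℤ)) Q Q L.mapDerivedCategory :=
    ⟨L.mapDerivedCategoryFactors.symm⟩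
  letI : CatCommSq (R.mapHomologicalComplex (ComplexShape.up ℤ)) Q Q R.mapDerivedCategory :=
    ⟨R.mapDerivedCategoryFactors.symm⟩
  (adjCx adj (ComplexShape.up ℤ)).localization Q (HomologicalComplex.quasiIso B (ComplexShape.up ℤ)) Q
    (HomologicalComplex.quasiIso A (ComplexShape.up ℤ)) L.mapDerivedCategory R.mapDerivedCategory

lemma unit_Q (K : CochainComplex B ℤ) : (adjD adj).unit.app (Q.obj K) =
    Q.map ((adjCx adj (ComplexShape.up ℤ)).unit.app K) ≫
      R.mapDerivedCategoryFactors.inv.app ((L.mapHomologicalComplex (ComplexShape.up ℤ)).obj K) ≫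
        R.mapDerivedCategory.map (L.mapDerivedCategoryFactors.inv.app K) := by
  letI : CatCommSq (L.mapHomologicalComplex (ComplexShape.up ℤ)) Q Q L.mapDerivedCategory :=
    ⟨L.mapDerivedCategoryFactors.symm⟩
  letI : CatCommSq (R.mapHomologicalComplex (ComplexShape.up ℤ)) Q Q R.mapDerivedCategory :=
    ⟨R.mapDerivedCategoryFactors.symm⟩
  exact Adjunction.localization_unit_app (adjCx adj (ComplexShape.up ℤ)) Q
    (HomologicalComplex.quasiIso B (ComplexShape.up ℤ)) Q
    (HomologicalComplex.quasiIso A (ComplexShape.up ℤ)) L.mapDerivedCategory R.mapDerivedCategory K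

omit [HasDerivedCategory.{w₁} B] [R.Additive] [PreservesFiniteLimits R] [PreservesFiniteColimits R] in
lemma homologyMapDer_Q [HasDerivedCategory.{w₁} B] (K : CochainComplex B ℤ) (n : ℤ) :
    (homologyMapDer L n).hom.app (Q.obj K) =
      (homologyFunctor A n).map (L.mapDerivedCategoryFactors.hom.app K) ≫
        (homologyFunctorFactors A n).hom.app _ ≫ (homologyMapCx L n).hom.app K ≫
          L.map ((homologyFunctorFactors B n).inv.app K) := by
  rw [homologyMapDer, Localization.liftNatIso_hom, Localization.liftNatTrans_app]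
  dsimp [Localization.Lifting.iso]
  simp only [Category.assoc, Category.id_comp, Category.comp_id]

lemma homology_unit_Q (K : CochainComplex B ℤ) (n : ℤ) :
    (homologyFunctor B n).map ((adjD adj).unit.app (Q.obj K)) ≫
      (homologyMapDer R n).hom.app (L.mapDerivedCategory.obj (Q.obj K)) ≫
        R.map ((homologyMapDer L n).hom.app (Q.obj K)) =
    adj.unit.app ((homologyFunctor B n).obj (Q.obj K)) := by
  have h0 := homology_sc adj (K.sc n)
  have hR := (homologyMapDer R n).hom.naturality (L.mapDerivedCategoryFactors.inv.app K)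
  dsimp only [Functor.comp_map] at hR
  have hQR := homologyMapDer_Q (L := R) ((L.mapHomologicalComplex (ComplexShape.up ℤ)).obj K) n
  have hQL := homologyMapDer_Q (L := L) K n
  have e1 : (homologyFunctor B n).map (R.mapDerivedCategoryFactors.inv.app
      ((L.mapHomologicalComplex (ComplexShape.up ℤ)).obj K)) ≫
      (homologyMapDer R n).hom.app (Q.obj ((L.mapHomologicalComplex (ComplexShape.up ℤ)).obj K)) =
      (homologyFunctorFactors B n).hom.app _ ≫
        (homologyMapCx R n).hom.app ((L.mapHomologicalComplex (ComplexShape.up ℤ)).obj K) ≫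
        R.map ((homologyFunctorFactors A n).inv.app ((L.mapHomologicalComplex (ComplexShape.up ℤ)).obj K)) := by
    rw [hQR, ← Functor.map_comp_assoc, Iso.inv_hom_id_app]
    erw [CategoryTheory.Functor.map_id, Category.id_comp]
  have e2 : (homologyFunctor A n).map (L.mapDerivedCategoryFactors.inv.app K) ≫
      (homologyMapDer L n).hom.app (Q.obj K) =
      (homologyFunctorFactors A n).hom.app _ ≫ (homologyMapCx L n).hom.app K ≫
        L.map ((homologyFunctorFactors B n).inv.app K) := by
    rw [hQL, ← Functor.map_comp_assoc, Iso.inv_hom_id_app]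
    erw [CategoryTheory.Functor.map_id, Category.id_comp]
  have h2 := (homologyFunctorFactors B n).hom.naturality ((adjCx adj (ComplexShape.up ℤ)).unit.app K)
  dsimp only [Functor.comp_map] at h2
  have h6 := adj.unit.naturality ((homologyFunctorFactors B n).inv.app K)
  dsimp only [Functor.id_map, Functor.comp_map] at h6
  have h7 : (homologyFunctorFactors B n).hom.app K ≫ (homologyFunctorFactors B n).inv.app K = 𝟙 _ :=
    Iso.hom_inv_id_app _ _
  rw [unit_Q]
  simp only [Functor.map_comp, Category.assoc]
  rw [reassoc_of% hR]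
  rw [← R.map_comp, e2]
  rw [reassoc_of% e1, ← R.map_comp]
  have e3 : (homologyFunctorFactors A n).inv.app ((L.mapHomologicalComplex (ComplexShape.up ℤ)).obj K) ≫
      (homologyFunctorFactors A n).hom.app ((L.mapHomologicalComplex (ComplexShape.up ℤ)).obj K) ≫
      (homologyMapCx L n).hom.app K ≫ L.map ((homologyFunctorFactors B n).inv.app K) =
      (homologyMapCx L n).hom.app K ≫ L.map ((homologyFunctorFactors B n).inv.app K) :=
    Iso.inv_hom_id_app_assoc _ _ _
  rw [e3, reassoc_of% h2, R.map_comp]
  have h8 : (HomologicalComplex.homologyFunctor B (ComplexShape.up ℤ) n).map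
      ((adjCx adj (ComplexShape.up ℤ)).unit.app K) ≫
      (homologyMapCx R n).hom.app ((L.mapHomologicalComplex (ComplexShape.up ℤ)).obj K) ≫
      R.map ((homologyMapCx L n).hom.app K) = adj.unit.app (K.homology n) := h0
  rw [reassoc_of% h8]
  exact (congrArg (fun t => (homologyFunctorFactors B n).hom.app K ≫ t) h6.symm).trans
    (Iso.hom_inv_id_app_assoc _ _ _)

omit [Abelian B] [HasDerivedCategory.{w₁} B] in
/-- Natural transformations which agree at `X` agree at objects isomorphic to `X`. -/
lemma natTrans_eq_of_iso {𝒟 : Type*} [Category* 𝒟] {F G : 𝒟 ⥤ B} (α β : F ⟶ G) {X Y : 𝒟} (e : X ≅ Y)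
    (h : α.app X = β.app X) : α.app Y = β.app Y := by
  have h1 := α.naturality e.hom
  have h2 := β.naturality e.hom
  rw [← cancel_epi (F.map e.hom), h1, h2, h]

/-- **The unit of the derived adjunction on cohomology.** -/
theorem homology_unit (K : DerivedCategory B) (n : ℤ) :
    (homologyFunctor B n).map ((adjD adj).unit.app K) ≫
      (homologyMapDer R n).hom.app (L.mapDerivedCategory.obj K) ≫
        R.map ((homologyMapDer L n).hom.app K) =
    adj.unit.app ((homologyFunctor B n).obj K) := by
  obtain ⟨K', ⟨e⟩⟩ : ∃ K' : CochainComplex B ℤ, Nonempty (Q.obj K' ≅ K) :=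
    ⟨_, ⟨Q.objObjPreimageIso K⟩⟩
  let α : homologyFunctor B n ⟶ homologyFunctor B n ⋙ (L ⋙ R) :=
    { app := fun K => (homologyFunctor B n).map ((adjD adj).unit.app K) ≫
        (homologyMapDer R n).hom.app (L.mapDerivedCategory.obj K) ≫ R.map ((homologyMapDer L n).hom.app K)
      naturality := fun X Y φ => by
        have h1 := (adjD adj).unit.naturality φ
        have h2 := (homologyMapDer R n).hom.naturality (L.mapDerivedCategory.map φ)
        have h3 := (homologyMapDer L n).hom.naturality φ
        dsimp only [Functor.comp_map, Functor.id_map] at h1 h2 h3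
        dsimp only [Functor.comp_map]
        rw [← Functor.map_comp_assoc, h1, Functor.map_comp_assoc, reassoc_of% h2, ← R.map_comp, h3, R.map_comp]
        simp only [Category.assoc] }
  let β : homologyFunctor B n ⟶ homologyFunctor B n ⋙ (L ⋙ R) :=
    { app := fun K => adj.unit.app ((homologyFunctor B n).obj K)
      naturality := fun X Y φ => adj.unit.naturality _ }
  exact natTrans_eq_of_iso α β e (homology_unit_Q adj K' n)

/-- On cohomology, adjoint morphisms are adjoint. -/
theorem homology_adjoint (K : DerivedCategory B) (M : DerivedCategory A) (b : L.mapDerivedCategory.obj K ⟶ M) (n : ℤ) :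
    (homologyFunctor B n).map ((adjD adj).unit.app K ≫ R.mapDerivedCategory.map b) ≫
      (homologyMapDer R n).hom.app M =
    adj.unit.app ((homologyFunctor B n).obj K) ≫
      R.map ((homologyMapDer L n).inv.app K ≫ (homologyFunctor A n).map b) := by
  have h1 := (homologyMapDer R n).hom.naturality b
  dsimp only [Functor.comp_map] at h1
  rw [← homology_unit adj K n, Functor.map_comp, Category.assoc, h1, Category.assoc, Category.assoc, ← R.map_comp,
    Iso.hom_inv_id_app_assoc]

/-- **Criterion.** `b : L K ⟶ M` with adjoint morphism `a`. If `H^n(a)` extends to an isomorphism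
`R L H^n(K) ≅ R H^n(M)`, then `H^n(b)` is an isomorphism. -/
theorem isIso_of_lift (K : DerivedCategory B) (M : DerivedCategory A) (b : L.mapDerivedCategory.obj K ⟶ M) (n : ℤ)
    (θ : R.obj (L.obj ((homologyFunctor B n).obj K)) ≅ R.obj ((homologyFunctor A n).obj M))
    (hθ : adj.unit.app ((homologyFunctor B n).obj K) ≫ θ.hom =
      (homologyFunctor B n).map ((adjD adj).unit.app K ≫ R.mapDerivedCategory.map b) ≫ (homologyMapDer R n).hom.app M)
    (hlift : ∀ g : R.obj ((homologyFunctor A n).obj M) ⟶ R.obj (L.obj ((homologyFunctor B n).obj K)),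
      ∃ ψ, R.map ψ = g)
    (hiso : ∀ ψ : (homologyFunctor A n).obj M ⟶ L.obj ((homologyFunctor B n).obj K), IsIso (R.map ψ) → IsIso ψ) :
    IsIso ((homologyFunctor A n).map b) := by
  obtain ⟨ψ, hψ⟩ := hlift θ.inv
  have hψi : IsIso ψ := hiso ψ (by rw [hψ]; infer_instance)
  let φ : L.obj ((homologyFunctor B n).obj K) ⟶ (homologyFunctor A n).obj M :=
    (homologyMapDer L n).inv.app K ≫ (homologyFunctor A n).map b
  have h1 : adj.unit.app ((homologyFunctor B n).obj K) ≫ R.map φ =
      adj.unit.app ((homologyFunctor B n).obj K) ≫ θ.hom := by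
    rw [hθ, homology_adjoint]
  have h2 : φ ≫ ψ = 𝟙 _ := by
    apply (adj.homEquiv _ _).injective
    rw [Adjunction.homEquiv_unit, Adjunction.homEquiv_unit, R.map_comp, reassoc_of% h1, hψ, Iso.hom_inv_id,
      Category.comp_id, R.map_id]
    exact (Category.comp_id _).symm
  have h3 : φ = inv ψ := by
    rw [← cancel_mono ψ, h2, IsIso.inv_hom_id]
  have h4 : (homologyFunctor A n).map b = (homologyMapDer L n).hom.app K ≫ φ := by
    rw [Iso.hom_inv_id_app_assoc]
  rw [h4, h3]
  infer_instance

/-- The derived unit on an object with a single cohomology. -/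
theorem unit_shift_single (M : B) (i : ℤ) :
    ∃ (w : R.mapDerivedCategory.obj (L.mapDerivedCategory.obj (((singleFunctor B 0).obj M)⟦i⟧)) ≅
        ((singleFunctor B 0).obj (R.obj (L.obj M)))⟦i⟧) (v : R.obj (L.obj M) ≅ R.obj (L.obj M)),
      (adjD adj).unit.app (((singleFunctor B 0).obj M)⟦i⟧) ≫ w.hom =
        ((singleFunctor B 0).map (adj.unit.app M ≫ v.hom))⟦i⟧' := by
  let w : R.mapDerivedCategory.obj (L.mapDerivedCategory.obj (((singleFunctor B 0).obj M)⟦i⟧)) ≅
        ((singleFunctor B 0).obj (R.obj (L.obj M)))⟦i⟧ :=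
    R.mapDerivedCategory.mapIso ((L.mapDerivedCategory.commShiftIso i).app _) ≪≫
      (R.mapDerivedCategory.commShiftIso i).app _ ≪≫
      (shiftFunctor _ i).mapIso (R.mapDerivedCategory.mapIso ((L.mapDerivedCategorySingleFunctor 0).app M) ≪≫
        (R.mapDerivedCategorySingleFunctor 0).app (L.obj M))
  obtain ⟨s, hs⟩ := (shiftFunctor (DerivedCategory B) i).map_surjective
    ((adjD adj).unit.app (((singleFunctor B 0).obj M)⟦i⟧) ≫ w.hom)
  obtain ⟨t, rfl⟩ := (singleFunctor B 0).map_surjective s
  -- `H^{-i}` of the shifted single object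
  let c : ∀ N : B, (homologyFunctor B (-i)).obj (((singleFunctor B 0).obj N)⟦i⟧) ≅ N := fun N =>
    ((homologyFunctor B 0).shiftIso i (-i) 0 (by simp)).app _ ≪≫
      (singleFunctorCompHomologyFunctorIso B 0).app N
  have hc : ∀ {N N' : B} (g : N ⟶ N'), (homologyFunctor B (-i)).map (((singleFunctor B 0).map g)⟦i⟧') ≫ (c N').hom =
      (c N).hom ≫ g := by
    intro N N' g
    have h1 := ((homologyFunctor B 0).shiftIso i (-i) 0 (by simp)).hom.naturality ((singleFunctor B 0).map g)
    have h2 := (singleFunctorCompHomologyFunctorIso B 0).hom.naturality g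
    dsimp only [Functor.comp_map, Functor.id_map] at h1 h2
    change _ ≫ ((homologyFunctor B 0).shiftIso i (-i) 0 (by simp)).hom.app _ ≫
      (singleFunctorCompHomologyFunctorIso B 0).hom.app N' = (((homologyFunctor B 0).shiftIso i (-i) 0 (by simp)).hom.app _ ≫
      (singleFunctorCompHomologyFunctorIso B 0).hom.app N) ≫ g
    rw [Category.assoc, ← h2]
    exact (reassoc_of% h1) _
  let K : DerivedCategory B := ((singleFunctor B 0).obj M)⟦i⟧
  let r : (homologyFunctor B (-i)).obj (R.mapDerivedCategory.obj (L.mapDerivedCategory.obj K)) ≅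
      R.obj (L.obj ((homologyFunctor B (-i)).obj K)) :=
    (homologyMapDer R (-i)).app (L.mapDerivedCategory.obj K) ≪≫ R.mapIso ((homologyMapDer L (-i)).app K)
  have h3 : (homologyFunctor B (-i)).map ((adjD adj).unit.app K) ≫ r.hom =
      adj.unit.app ((homologyFunctor B (-i)).obj K) := homology_unit adj K (-i)
  have h4 : (homologyFunctor B (-i)).map ((adjD adj).unit.app K) ≫ (homologyFunctor B (-i)).map w.hom =
      (homologyFunctor B (-i)).map (((singleFunctor B 0).map t)⟦i⟧') := by
    rw [← Functor.map_comp, hs]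
  have h5 := hc t
  rw [← h4] at h5
  have h6 := adj.unit.naturality (c M).inv
  dsimp only [Functor.id_map, Functor.comp_map] at h6
  let v : R.obj (L.obj M) ≅ R.obj (L.obj M) := R.mapIso (L.mapIso (c M).symm) ≪≫ r.symm ≪≫
    (homologyFunctor B (-i)).mapIso w ≪≫ c (R.obj (L.obj M))
  refine ⟨w, v, ?_⟩
  rw [← hs]
  have h7 : t = adj.unit.app M ≫ v.hom := by
    have h8 : adj.unit.app M ≫ R.map (L.map (c M).inv) = (c M).inv ≫ adj.unit.app ((homologyFunctor B (-i)).obj K) :=
      h6.symm
    change t = adj.unit.app M ≫ R.map (L.map (c M).inv) ≫ r.inv ≫ (homologyFunctor B (-i)).map w.hom ≫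
      (c (R.obj (L.obj M))).hom
    rw [reassoc_of% h8, ← h3, Category.assoc, Iso.hom_inv_id_assoc, ← cancel_epi (c M).hom, Iso.hom_inv_id_assoc, ← h5,
      Category.assoc]
  rw [h7]

end K785.ExAdj
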