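import Groth.Agent.Etrest.RDer2
import Groth.Agent.CohtopB.ExtColim
import Mathlib.CategoryTheory.Abelian.GrothendieckAxioms.Basic
import Mathlib.CategoryTheory.Limits.Preserves.Filtered

/-!
# Right derived functors and filtered colimits

* `isIso_post`: `G : A ⥤ B` left exact, preserving colimits of shape `I`, colimits of shape `I` exact in `A`, every
  `I`-diagram embeds into a diagram of injectives and `I`-colimits of injectives are `G`-acyclic; then the comparison
  `colim R^q G F ⟶ R^q G (colim F)` is an isomorphism.
* `preservesColimitsOfShape_rightDerived`: `R^q G` preserves colimits of shape `I` (`A` Grothendieck abelian).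
-/

set_option autoImplicit false
universe t t' v v' u u' w

open CategoryTheory CategoryTheory.Limits

noncomputable section

namespace K785.FiltDer

open Groth.Agent.Etrest.RDer1 Groth.Agent.Etrest.RDer2

variable {A : Type u} [Category.{v} A] [Abelian A] [EnoughInjectives A] {B : Type u'} [Category.{v'} B] [Abelian B]
  (G : A ⥤ B) [G.Additive] {I : Type t} [Category.{t'} I] [HasColimitsOfShape I A] [HasColimitsOfShape I B]

omit [EnoughInjectives A] [HasColimitsOfShape I A] in
lemma shortExact_app {F J : I ⥤ A} (ι : F ⟶ J) [Mono ι] (i : I) :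
    (ShortComplex.mk (ι.app i) ((cokernel.π ι).app i) (by
      rw [← NatTrans.comp_app, cokernel.condition]; rfl)).ShortExact := by
  have h1 : (ShortComplex.mk ι (cokernel.π ι) (cokernel.condition _)).ShortExact :=
    { exact := ShortComplex.exact_cokernel _
      mono_f := inferInstanceAs (Mono ι)
      epi_g := inferInstanceAs (Epi (cokernel.π ι)) }
  exact h1.map_of_exact ((evaluation I A).obj i)

omit [EnoughInjectives A] in
lemma shortExact_colim [HasExactColimitsOfShape I A] {F J : I ⥤ A} (ι : F ⟶ J) [Mono ι] :
    (ShortComplex.mk (colim.map ι) (colim.map (cokernel.π ι)) (by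
      rw [← Functor.map_comp, cokernel.condition, Functor.map_zero])).ShortExact := by
  have h1 : (ShortComplex.mk ι (cokernel.π ι) (cokernel.condition _)).ShortExact :=
    { exact := ShortComplex.exact_cokernel _
      mono_f := inferInstanceAs (Mono ι)
      epi_g := inferInstanceAs (Epi (cokernel.π ι)) }
  exact h1.map_of_exact (colim (J := I) (C := A))

variable [PreservesFiniteLimits G] [HasExactColimitsOfShape I A]

/-- Dimension shifting. -/
theorem isIso_post [PreservesColimitsOfShape I G]
    (hemb : ∀ F : I ⥤ A, ∃ (J : I ⥤ A) (ι : F ⟶ J), Mono ι ∧ ∀ i, Injective (J.obj i))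
    (hJ : ∀ J : I ⥤ A, (∀ j, Injective (J.obj j)) → IsAcyc G (colimit J)) (q : ℕ) :
    ∀ F : I ⥤ A, IsIso (colimit.post F (G.rightDerived q)) := by
  induction q with
  | zero =>
    intro K
    have : PreservesColimitsOfShape I (G.rightDerived 0) :=
      preservesColimitsOfShape_of_natIso G.rightDerivedZeroIsoSelf.symm
    infer_instance
  | succ q ih =>
    intro F
    obtain ⟨J, ι, hι, hJi⟩ := hemb F
    let Q : I ⥤ A := cokernel ι
    let π : J ⟶ Q := cokernel.π ι
    have hS := shortExact_app ι
    have hT := shortExact_colim (I := I) ι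
    have hnat : ∀ {i j : I} (f : i ⟶ j), δ G (hS i) q ≫ (G.rightDerived (q + 1)).map (F.map f) =
        (G.rightDerived q).map (Q.map f) ≫ δ G (hS j) q := fun {i j} f =>
      δ_naturality G (hS i) (hS j)
        { τ₁ := F.map f
          τ₂ := J.map f
          τ₃ := Q.map f
          comm₁₂ := ι.naturality f
          comm₂₃ := π.naturality f } q
    have hcol : ∀ i : I, δ G (hS i) q ≫ (G.rightDerived (q + 1)).map (colimit.ι F i) =
        (G.rightDerived q).map (colimit.ι Q i) ≫ δ G hT q := fun i =>
      δ_naturality G (hS i) hT
        { τ₁ := colimit.ι F i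
          τ₂ := colimit.ι J i
          τ₃ := colimit.ι Q i
          comm₁₂ := colimit.ι_map ι i
          comm₂₃ := colimit.ι_map π i } q
    let cI := colimit.post J (G.rightDerived q)
    let cQ := colimit.post Q (G.rightDerived q)
    let c := colimit.post F (G.rightDerived (q + 1))
    have hcI : IsIso cI := ih _
    have hcQ : IsIso cQ := ih _
    let pn : Q ⋙ G.rightDerived q ⟶ F ⋙ G.rightDerived (q + 1) :=
      { app := fun i => δ G (hS i) q
        naturality := fun i j f => (hnat f).symm }
    let p := colim.map pn
    let δ' := δ G hT q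
    have hp : Epi p := by
      have : ∀ i, Epi (pn.app i) := fun i => by
        have := hJi i
        exact (exact₁ G (hS i) q).epi_f ((isAcyc_of_injective G (J.obj i) q).eq_of_tgt _ _)
      have : Epi pn := NatTrans.epi_of_epi_app pn
      exact inferInstance
    have hδ' : Epi δ' := (exact₁ G hT q).epi_f ((hJ J hJi q).eq_of_tgt _ _)
    have h1 : p ≫ c = cQ ≫ δ' := by
      refine colimit.hom_ext fun i => ?_
      change colimit.ι _ i ≫ colimMap pn ≫ colimit.post F (G.rightDerived (q + 1)) =
        colimit.ι _ i ≫ colimit.post Q (G.rightDerived q) ≫ δ'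
      rw [ι_colimMap_assoc, colimit.ι_post, colimit.ι_post_assoc]
      exact hcol i
    have h2 : colimMap (Functor.whiskerRight π (G.rightDerived q)) ≫ cQ =
        cI ≫ (G.rightDerived q).map (colimMap π) := by
      refine colimit.hom_ext fun i => ?_
      change colimit.ι _ i ≫ colimMap _ ≫ colimit.post Q (G.rightDerived q) =
        colimit.ι _ i ≫ colimit.post J (G.rightDerived q) ≫ _
      rw [ι_colimMap_assoc, colimit.ι_post, colimit.ι_post_assoc, ← Functor.map_comp, ι_colimMap,
        Functor.map_comp]
      rfl
    have h3 : colimMap (Functor.whiskerRight π (G.rightDerived q)) ≫ p = 0 := by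
      refine colimit.hom_ext fun i => ?_
      change colimit.ι _ i ≫ colimMap _ ≫ colimMap pn = _
      rw [ι_colimMap_assoc, ι_colimMap, comp_zero]
      have h := comp_δ G (hS i) q
      change (G.rightDerived q).map (π.app i) ≫ δ G (hS i) q ≫ _ = 0
      rw [← Category.assoc, h, zero_comp]
    have h4 : (G.rightDerived q).map (colimMap π) ≫ inv cQ ≫ p = 0 := by
      rw [← cancel_epi cI, ← Category.assoc, ← h2, Category.assoc, IsIso.hom_inv_id_assoc, h3, comp_zero]
    have hc1 : Epi c := epi_of_epi_fac h1
    let e := (exact₃ G hT q).desc (inv cQ ≫ p) h4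
    have he : δ' ≫ e = inv cQ ≫ p := (exact₃ G hT q).g_desc _ _
    have h5 : c ≫ e = 𝟙 _ := by
      rw [← cancel_epi p, ← Category.assoc, h1, Category.assoc, he, IsIso.hom_inv_id_assoc]
      exact (Category.comp_id p).symm
    have hc2 : Mono c := mono_of_mono_fac h5
    exact isIso_of_mono_of_epi c

theorem preservesColimitsOfShape_rightDerived_of [PreservesColimitsOfShape I G]
    (hemb : ∀ F : I ⥤ A, ∃ (J : I ⥤ A) (ι : F ⟶ J), Mono ι ∧ ∀ i, Injective (J.obj i))
    (hJ : ∀ J : I ⥤ A, (∀ j, Injective (J.obj j)) → IsAcyc G (colimit J)) (q : ℕ) :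
    PreservesColimitsOfShape I (G.rightDerived q) where
  preservesColimit {F} := by
    have := isIso_post G hemb hJ q F
    exact preservesColimit_of_isIso_post (G.rightDerived q) F

/-- Right derived functors on a Grothendieck abelian category commute with `I`-colimits as soon as the functor does and
`I`-colimits of injectives are acyclic. -/
theorem preservesColimitsOfShape_rightDerived [IsGrothendieckAbelian.{w} A] [PreservesColimitsOfShape I G]
    (hJ : ∀ J : I ⥤ A, (∀ j, Injective (J.obj j)) → IsAcyc G (colimit J)) (q : ℕ) :
    PreservesColimitsOfShape I (G.rightDerived q) :=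
  preservesColimitsOfShape_rightDerived_of G
    (fun F => Groth.Agent.CohtopB.ExtColim.exists_mono_injective F) hJ q

end K785.FiltDer
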