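import Groth.Agent.LoccohA.HomolFive
import Groth.Agent.PerfA.BddDev
import Groth.Agent.SiteCmp.K578.CoreEq

/-!
# Unbounded dévissage for a natural transformation between homological functors

`τ : H₁ ⟶ H₂` a natural transformation between homological functors `D(A) ⥤ Ab`, `P` a weak Serre class. If both
functors have bounded amplitude on `D_P(A)` and `τ` is bijective on the shifts of the objects of `P`, then it is
bijective on `D_P(A)` (`bij`). No compatibility of `τ` with shifts is needed.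
-/

set_option autoImplicit false

open CategoryTheory CategoryTheory.Limits CategoryTheory.Pretriangulated

namespace K785.HomDev

open Groth.Agent.LoccohA.HomolFive

section Tri

universe w v u

variable {C : Type u} [Category.{v} C] [Preadditive C] [HasZeroObject C] [HasShift C ℤ]
  [∀ n : ℤ, (shiftFunctor C n).Additive] [Pretriangulated C]

lemma bijective_iff_of_iso {H₀ H : C ⥤ AddCommGrpCat.{w}} (τ : H₀ ⟶ H) {X Y : C} (e : X ≅ Y) :
    Function.Bijective (τ.app X) ↔ Function.Bijective (τ.app Y) :=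
  ⟨bijective_of_iso τ e, bijective_of_iso τ e.symm⟩

/-- `H(T₂) ≅ H(T₃)` if `H(T₁) = H(T₁⟦1⟧) = 0`. -/
lemma bijective_mor₂ (H : C ⥤ AddCommGrpCat.{w}) [H.IsHomological] (T : Triangle C) (hT : T ∈ distTriang C)
    (h₁ : Subsingleton (H.obj T.obj₁)) (h₁' : Subsingleton (H.obj (T.obj₁⟦(1 : ℤ)⟧))) :
    Function.Bijective (H.map T.mor₂) := by
  constructor
  · rw [injective_iff_map_eq_zero]
    intro x hx
    obtain ⟨y, rfl⟩ := exact_elem H T hT x hx
    rw [Subsingleton.elim y 0, map_zero]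
  · intro x
    obtain ⟨y, hy⟩ := exact_elem₃ H T hT x (Subsingleton.elim _ _)
    exact ⟨y, hy⟩

/-- `H(T₁) ≅ H(T₂)` if `H(T₃) = H(T₃⟦-1⟧) = 0`. -/
lemma bijective_mor₁ (H : C ⥤ AddCommGrpCat.{w}) [H.IsHomological] (T : Triangle C) (hT : T ∈ distTriang C)
    (h₃ : Subsingleton (H.obj T.obj₃)) (h₃' : Subsingleton (H.obj (T.obj₃⟦(-1 : ℤ)⟧))) :
    Function.Bijective (H.map T.mor₁) := by
  have e : H.obj T.obj₃ ≅ H.obj ((T.obj₃⟦(-1 : ℤ)⟧)⟦(1 : ℤ)⟧) :=
    H.mapIso ((shiftFunctorCompIsoId C (-1 : ℤ) 1 (by lia)).symm.app T.obj₃)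
  exact bijective_mor₂ H T.invRotate (inv_rot_of_distTriang _ hT) h₃'
    ((ConcreteCategory.isIso_iff_bijective e.hom).1 inferInstance).2.subsingleton

variable {H₁ H₂ : C ⥤ AddCommGrpCat.{w}} [H₁.IsHomological] [H₂.IsHomological] (τ : H₁ ⟶ H₂)

omit [HasZeroObject C] [HasShift C ℤ] [Preadditive C] [∀ n : ℤ, (shiftFunctor C n).Additive] [Pretriangulated C]
  [H₁.IsHomological] [H₂.IsHomological] in
lemma bijective_iff_of_map {X Y : C} (f : X ⟶ Y) (h₁ : Function.Bijective (H₁.map f))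
    (h₂ : Function.Bijective (H₂.map f)) : Function.Bijective (τ.app X) ↔ Function.Bijective (τ.app Y) := by
  have h : (τ.app Y) ∘ (H₁.map f) = (H₂.map f) ∘ (τ.app X) := funext fun x => naturality_elem τ f x
  constructor
  · intro hX
    have h' : Function.Bijective ((τ.app Y) ∘ (H₁.map f)) := by rw [h]; exact h₂.comp hX
    exact (Function.Bijective.of_comp_iff _ h₁).1 h'
  · intro hY
    have h' : Function.Bijective ((H₂.map f) ∘ (τ.app X)) := by rw [← h]; exact hY.comp h₁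
    exact (Function.Bijective.of_comp_iff' h₂ _).1 h'

/-- `τ` is bijective on all shifts of `X`. -/
def Bij (X : C) : Prop := ∀ i : ℤ, Function.Bijective (τ.app (X⟦i⟧))

omit [HasZeroObject C] [Preadditive C] [∀ n : ℤ, (shiftFunctor C n).Additive] [Pretriangulated C]
  [H₁.IsHomological] [H₂.IsHomological] in
variable {τ} in
lemma Bij.of_iso {X Y : C} (h : Bij τ X) (e : X ≅ Y) : Bij τ Y :=
  fun i => bijective_of_iso τ ((shiftFunctor C i).mapIso e) (h i)

omit [HasZeroObject C] [Preadditive C] [∀ n : ℤ, (shiftFunctor C n).Additive] [Pretriangulated C]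
  [H₁.IsHomological] [H₂.IsHomological] in
variable {τ} in
lemma Bij.shift {X : C} (h : Bij τ X) (n : ℤ) : Bij τ (X⟦n⟧) :=
  fun i => bijective_of_iso τ ((shiftFunctorAdd C n i).app X) (h (n + i))

omit [HasZeroObject C] [Preadditive C] [∀ n : ℤ, (shiftFunctor C n).Additive] [Pretriangulated C]
  [H₁.IsHomological] [H₂.IsHomological] in
variable {τ} in
lemma Bij.shift_shift {X : C} (h : Bij τ X) (n m : ℤ) : Function.Bijective (τ.app ((X⟦n⟧)⟦m⟧)) :=
  h.shift n m

variable {τ} in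
lemma Bij.middle (T : Triangle C) (hT : T ∈ distTriang C) (h₁ : Bij τ T.obj₁) (h₃ : Bij τ T.obj₃) :
    Bij τ T.obj₂ := by
  intro i
  have hT' := rot_of_distTriang _ (Triangle.shift_distinguished _ hT (i - 1))
  have h := bijective_of_triangle τ _ hT' (h₃ (i - 1)).2 ((h₁.shift (i - 1)) 1) ((h₃.shift (i - 1)) 1)
    (((h₁.shift (i - 1)).shift 1) 1).1
  exact bijective_of_iso τ ((shiftFunctorAdd' C (i - 1) 1 i (by lia)).symm.app T.obj₂) h

end Tri

section Der

universe t w v u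

variable {A : Type u} [Category.{v} A] [Abelian A] [HasDerivedCategory.{w} A]
  {H₁ H₂ : DerivedCategory A ⥤ AddCommGrpCat.{t}} [H₁.IsHomological] [H₂.IsHomological] (τ : H₁ ⟶ H₂)
  (P : ObjectProperty A) [WSerre.IsWeakSerre P]

open DerivedCategory

lemma bij_single (h0 : ∀ F : A, P F → Bij τ ((singleFunctor A 0).obj F)) (F : A) (hF : P F) (n : ℤ) :
    Bij τ ((singleFunctor A n).obj F) := by
  refine Bij.of_iso ((h0 F hF).shift (-n)) ?_
  exact (((singleFunctors A).shiftIso (-n) n 0 (by simp)).app F)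

lemma bij_bounded (h0 : ∀ F : A, P F → Bij τ ((singleFunctor A 0).obj F)) (K : DerivedCategory A) (a b : ℤ)
    [K.IsGE a] [K.IsLE b] (hK : WSerre.cohIn P K) : Bij τ K :=
  Groth.Agent.PerfA.BddDev.devissage P (Bij τ) (fun e h => h.of_iso e) (fun F n hF => bij_single τ P h0 F hF n)
    (fun T hT h₁ h₃ => Bij.middle T hT h₁ h₃) K a b hK

/-- **Unbounded dévissage.** -/
theorem bij (e l : ℤ) (h0 : ∀ F : A, P F → Bij τ ((singleFunctor A 0).obj F))
    (hb₁ : ∀ (G : DerivedCategory A) (b : ℤ), WSerre.cohIn P G → G.IsLE b → ∀ i : ℤ, b + e < i →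
      Subsingleton (H₁.obj (G⟦i⟧)))
    (hb₂ : ∀ (G : DerivedCategory A) (b : ℤ), WSerre.cohIn P G → G.IsLE b → ∀ i : ℤ, b + e < i →
      Subsingleton (H₂.obj (G⟦i⟧)))
    (hl₁ : ∀ (G : DerivedCategory A) (a : ℤ), G.IsGE a → ∀ i : ℤ, i + l < a → Subsingleton (H₁.obj (G⟦i⟧)))
    (hl₂ : ∀ (G : DerivedCategory A) (a : ℤ), G.IsGE a → ∀ i : ℤ, i + l < a → Subsingleton (H₂.obj (G⟦i⟧)))
    (G : DerivedCategory A) (hG : WSerre.cohIn P G) : Bij τ G := by
  intro i
  -- reduction to a bounded below object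
  let m : ℤ := i - e
  let G₁ := (TStructure.t.truncLT m).obj G
  let G₂ := (TStructure.t.truncGE m).obj G
  have hT := Triangle.shift_distinguished _ (TStructure.t.triangleLTGE_distinguished m G) i
  have a1 : G₁.IsLE (m - 1) := TStructure.t.isLE_truncLT_obj _ _ _ (by lia)
  have c1 : WSerre.cohIn P G₁ := K578.CoreEq.cohIn_truncLT P G hG m
  have a2 : G₂.IsGE m := TStructure.t.isGE_truncGE_obj _ _ _ le_rfl
  have c2 : WSerre.cohIn P G₂ := K578.CoreEq.cohIn_truncGE P G hG m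
  have sub : ∀ (H : DerivedCategory A ⥤ AddCommGrpCat.{t}) (K : DerivedCategory A) (n n' : ℤ),
      Subsingleton (H.obj (K⟦n + n'⟧)) → Subsingleton (H.obj ((K⟦n⟧)⟦n'⟧)) := fun H K n n' h =>
    ((ConcreteCategory.isIso_iff_bijective (H.mapIso ((shiftFunctorAdd _ n n').app K)).hom).1
      inferInstance).2.subsingleton
  have key₁ : Function.Bijective (τ.app (G⟦i⟧)) ↔ Function.Bijective (τ.app (G₂⟦i⟧)) := by
    refine bijective_iff_of_map τ _ (bijective_mor₂ H₁ _ hT ?_ ?_) (bijective_mor₂ H₂ _ hT ?_ ?_)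
    · exact hb₁ G₁ (m - 1) c1 a1 i (by lia)
    · exact sub H₁ G₁ i 1 (hb₁ G₁ (m - 1) c1 a1 (i + 1) (by lia))
    · exact hb₂ G₁ (m - 1) c1 a1 i (by lia)
    · exact sub H₂ G₁ i 1 (hb₂ G₁ (m - 1) c1 a1 (i + 1) (by lia))
  rw [key₁]
  -- reduction to a bounded object
  let n : ℤ := i + l + 1
  let G₃ := (TStructure.t.truncLT n).obj G₂
  let G₄ := (TStructure.t.truncGE n).obj G₂
  have hT' := Triangle.shift_distinguished _ (TStructure.t.triangleLTGE_distinguished n G₂) i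
  have a3 : G₃.IsLE (n - 1) := TStructure.t.isLE_truncLT_obj _ _ _ (by lia)
  have a3' : G₃.IsGE m := Groth.Agent.PerfA.BddDev.isGE_truncLT G₂ n m
  have c3 : WSerre.cohIn P G₃ := K578.CoreEq.cohIn_truncLT P G₂ c2 n
  have a4 : G₄.IsGE n := TStructure.t.isGE_truncGE_obj _ _ _ le_rfl
  have key₂ : Function.Bijective (τ.app (G₃⟦i⟧)) ↔ Function.Bijective (τ.app (G₂⟦i⟧)) := by
    refine bijective_iff_of_map τ _ (bijective_mor₁ H₁ _ hT' ?_ ?_) (bijective_mor₁ H₂ _ hT' ?_ ?_)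
    · exact hl₁ G₄ n a4 i (by lia)
    · exact sub H₁ G₄ i (-1) (hl₁ G₄ n a4 (i + -1) (by lia))
    · exact hl₂ G₄ n a4 i (by lia)
    · exact sub H₂ G₄ i (-1) (hl₂ G₄ n a4 (i + -1) (by lia))
  rw [← key₂]
  exact bij_bounded τ P h0 G₃ m (n - 1) c3 i

end Der

end K785.HomDev
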