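import Groth.Agent.FSch.K785.LocBound
import Groth.Agent.FSch.K785.BCGen
import Groth.Agent.FSch.K179.CohBC
import Groth.Agent.FTors.K920.KapDer

/-!
# Base change to the completion for unbounded complexes with quasi-coherent cohomology
-/

set_option autoImplicit false
universe u

open CategoryTheory CategoryTheory.Limits Opposite DerivedCategory TopologicalSpace AlgebraicGeometry

attribute [local instance] HasDerivedCategory.standard

noncomputable section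

namespace K785.KapBC

open K29.RSec K29.RStalk K29.RExact K785.StF K920.KapSch K785.WayOut Groth.Agent.Dcoh.MapDer

/-- Inverse images of affine opens under a quasi-compact morphism from a locally Noetherian scheme. -/
theorem small_sch {X Y : Scheme.{u}} (g : X ⟶ Y) [QuasiCompact g] [IsLocallyNoetherian X] (y : Y) (V : Y.Opens)
    (hy : y ∈ V) : ∃ V' : Y.Opens, y ∈ V' ∧ V' ≤ V ∧ NoetherianSpace (g ⁻¹ᵁ V') := by
  obtain ⟨V', hV', hy', hle⟩ := exists_isAffineOpen_mem_and_subset (X := Y) hy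
  refine ⟨V', hy', hle, ?_⟩
  have h1 : CompactSpace ((g ⁻¹ᵁ V' : X.Opens)) :=
    isCompact_iff_compactSpace.1 (g.isCompact_preimage hV'.isCompact)
  have h2 : IsLocallyNoetherian (g ⁻¹ᵁ V').toScheme := inferInstance
  have h3 : IsNoetherian (g ⁻¹ᵁ V').toScheme := { }
  exact (inferInstance : NoetherianSpace (g ⁻¹ᵁ V').toScheme)

variable {X Y : Scheme.{u}} [IsLocallyNoetherian X] [IsLocallyNoetherian Y] (f : X ⟶ Y) [IsProper f]
  (𝓘 : Y.IdealSheafData) (𝓚 : X.IdealSheafData) (hpc : FSch.PowCompat f 𝓚 𝓘)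
  (hX : (FSch.completionAlong X 𝓚).IsFormal) (hY : (FSch.completionAlong Y 𝓘).IsFormal)

/-- The morphism of completions. -/
abbrev fh : ModSite.RMor ((FSch.completionAlong X 𝓚).Osh hX) ((FSch.completionAlong Y 𝓘).Osh hY) :=
  FSch.homMor (FSch.completionMap f 𝓚 𝓘 hpc) hX hY

/-- `f_* κ_{X*} ≅ κ_{Y*} f̂_*`. -/
def sq : (kap X 𝓚 hX).push ⋙ (ModSite.RMor.ofScheme f).push ≅ (fh f 𝓘 𝓚 hpc hX hY).push ⋙ (kap Y 𝓘 hY).push :=
  ModSite.RMor.pushSq (FSch.schSharp_sq (FSch.completionMap f 𝓚 𝓘 hpc) hX hY f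
    (FSch.completionToX X 𝓚) (FSch.completionToX_comm X 𝓚) (FSch.completionToX Y 𝓘) (FSch.completionToX_comm Y 𝓘)
    (FSch.completionMap_sq f 𝓚 𝓘 hpc))

omit [IsLocallyNoetherian X] [IsLocallyNoetherian Y] in
theorem qc_app : QuasiCompact ((FSch.completionMap f 𝓚 𝓘 hpc : FSch.Hom _ _).app 0) := by
  have h1 := FSch.completionMap_sq f 𝓚 𝓘 hpc 0
  have i1 : QuasiCompact (FSch.completionToX X 𝓚 0) := inferInstanceAs (QuasiCompact ((𝓚 ^ (0 + 1)).subschemeι))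
  have i2 : QuasiSeparated (FSch.completionToX Y 𝓘 0) := inferInstanceAs (QuasiSeparated ((𝓘 ^ (0 + 1)).subschemeι))
  have h2 : QuasiCompact (FSch.completionToX X 𝓚 0 ≫ f) := inferInstance
  rw [h1] at h2
  exact QuasiCompact.of_comp _ (FSch.completionToX Y 𝓘 0)

omit [IsLocallyNoetherian Y] in
theorem small_f : Small (ModSite.RMor.ofScheme f) := fun y V hy => small_sch f y V hy

omit [IsLocallyNoetherian Y] in
theorem small_fh : Small (fh f 𝓘 𝓚 hpc hX hY) := by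
  intro y V hy
  have h1 := qc_app f 𝓘 𝓚 hpc
  have h2 : IsLocallyNoetherian ((FSch.completionAlong X 𝓚).X 0) :=
    (Groth.Agent.S3854.result X 𝓚).2.2 0
  exact small_sch ((FSch.completionMap f 𝓚 𝓘 hpc : FSch.Hom _ _).app 0) y V hy

section Bounds

variable [SiteCmp.HasRpushD (ModSite.RMor.ofScheme f)] [PreservesFiniteLimits (kap Y 𝓘 hY).pull]

include hY in
theorem bound₁ (y : (FSch.completionAlong Y 𝓘).X 0) :
    ∃ e : ℕ, ∀ (G : DerivedCategory (ModSite.Mod X.sheaf)) (m : ℤ), WSerre.cohIn (K182.SchLoc.qc X) G → G.IsLE m →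
      ∀ i : ℤ, m + e < i → Subsingleton (St ((homologyFunctor _ i).obj
        ((SiteCmp.pullD (kap Y 𝓘 hY)).obj ((SiteCmp.RpushD (ModSite.RMor.ofScheme f)).obj G))) y) := by
  obtain ⟨e, he⟩ := LocBound.exists_bound_sch f (bs Y 𝓘 y)
  refine ⟨e, fun G m hG hm i hi => ?_⟩
  have h1 := he G m hG hm i hi
  have h2 := subsingleton_pull (φ := phi Y 𝓘 hY) (kap Y 𝓘 hY).adj _ y h1
  have h3 : Subsingleton ((stF y).obj ((kap Y 𝓘 hY).pull.obj ((homologyFunctor _ i).obj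
      ((SiteCmp.RpushD (ModSite.RMor.ofScheme f)).obj G)))) := h2
  exact ((stF y).mapIso (K920.ExDer.hModPull (kap Y 𝓘 hY)
    ((SiteCmp.RpushD (ModSite.RMor.ofScheme f)).obj G) i)).addCommGroupIsoToAddEquiv.subsingleton

variable [SiteCmp.HasRpushD (fh f 𝓘 𝓚 hpc hX hY)] [PreservesFiniteLimits (kap X 𝓚 hX).pull]

/-- `κ^*` of a quasi-coherent module is ind-coherent. -/
theorem indCoh_pull (M : ModSite.Mod X.sheaf) (hM : K182.SchLoc.qc X M) :
    K181.Formal.IndCoh (Groth.Agent.S3854.result X 𝓚) ((kap X 𝓚 hX).pull.obj M) := by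
  obtain ⟨J, _, _, pres, hJ⟩ := K180.SchInd.ind_of_isQCoh (X := X) (M := M) hM
  have h1 : PreservesColimitsOfSize.{u, u} (kap X 𝓚 hX).pull := (kap X 𝓚 hX).adj.leftAdjoint_preservesColimits
  have h2 : PreservesColimit pres.diag (kap X 𝓚 hX).pull := (h1.preservesColimitsOfShape (J := J)).preservesColimit
  let hc' : IsColimit ((kap X 𝓚 hX).pull.mapCocone pres.cocone) := @isColimitOfPreserves _ _ _ _ _ _ pres.diag
    (kap X 𝓚 hX).pull pres.cocone pres.isColimit h2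
  refine ⟨J, inferInstance, inferInstance, ⟨pres.diag ⋙ (kap X 𝓚 hX).pull,
    ((kap X 𝓚 hX).pull.mapCocone pres.cocone).ι, hc'⟩, fun j => ?_⟩
  exact K182.K4Der.isCohF_pull 𝓚 hX (hJ j)

theorem bound₂ (y : (FSch.completionAlong Y 𝓘).X 0) :
    ∃ e : ℕ, ∀ (G : DerivedCategory (ModSite.Mod X.sheaf)) (m : ℤ), WSerre.cohIn (K182.SchLoc.qc X) G → G.IsLE m →
      ∀ i : ℤ, m + e < i → Subsingleton (St ((homologyFunctor _ i).obj
        ((SiteCmp.RpushD (fh f 𝓘 𝓚 hpc hX hY)).obj ((SiteCmp.pullD (kap X 𝓚 hX)).obj G))) y) := by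
  have h1 := qc_app f 𝓘 𝓚 hpc
  obtain ⟨e, he⟩ := LocBound.exists_bound_formal _ _ (Groth.Agent.S3854.result X 𝓚) hY
    (FSch.completionMap f 𝓚 𝓘 hpc) _ (K181.RelBound.acycOn_indCoh _ (Groth.Agent.S3854.result X 𝓚)) y
  refine ⟨e, fun G m hG hm i hi => ?_⟩
  have h2 : ((SiteCmp.pullD (kap X 𝓚 hX)).obj G).IsLE m := by
    rw [isLE_iff]
    intro k hk
    exact ((kap X 𝓚 hX).pull.map_isZero (isZero_of_isLE G m k hk)).of_iso
      (K920.ExDer.hModPull (kap X 𝓚 hX) G k)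
  refine he _ m (fun k => ?_) h2 i hi
  refine (ObjectProperty.ind.{u} _).prop_of_iso (K920.ExDer.hModPull (kap X 𝓚 hX) G k).symm ?_
  exact indCoh_pull 𝓚 hX _ (hG k)

end Bounds

section Main

variable [SiteCmp.HasRpushD (ModSite.RMor.ofScheme f)] [PreservesFiniteLimits (kap Y 𝓘 hY).pull]
  [SiteCmp.HasRpushD (fh f 𝓘 𝓚 hpc hX hY)] [PreservesFiniteLimits (kap X 𝓚 hX).pull]

/-- **Base change to the completion.** -/
theorem nonempty_iso (h𝓚 : 𝓚 = 𝓘.comap f) (E : DerivedCategory (ModSite.Mod X.sheaf))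
    (hE : WSerre.cohIn (K182.SchLoc.qc X) E) :
    Nonempty ((SiteCmp.pullD (kap Y 𝓘 hY)).obj ((SiteCmp.RpushD (ModSite.RMor.ofScheme f)).obj E) ≅
      (SiteCmp.RpushD (fh f 𝓘 𝓚 hpc hX hY)).obj ((SiteCmp.pullD (kap X 𝓚 hX)).obj E)) := by
  have i0 := K578.Der.hasInjectiveResolutions X.sheaf
  have i0' : HasInjectiveResolutions X.Modules := i0
  exact BCGen.nonempty_iso (kap X 𝓚 hX) (ModSite.RMor.ofScheme f) (fh f 𝓘 𝓚 hpc hX hY) (kap Y 𝓘 hY)
    (sq f 𝓘 𝓚 hpc hX hY) (K182.SchLoc.qc X) (fun M => Coh.IsCoh (X := X) M)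
    (fun M hM => K180.SchInd.ind_of_isQCoh (X := X) (M := M) hM) (small_f f) (small_fh f 𝓘 𝓚 hpc hX hY)
    (fun M hM n => K179.CohBC.exists_theta f 𝓘 𝓚 h𝓚 hX hY M hM n)
    (fun M hM n N g => K179.CohBC.exists_lift_of_coh 𝓘 hY _ (Groth.Agent.S0036.result f M hM n) N g)
    (fun N N' ψ h => K179.CohBC.isIso_of_isIso_push 𝓘 hY ψ h) (fun y => bound₁ f 𝓘 hY y)
    (fun y => bound₂ f 𝓘 𝓚 hpc hX hY y) E hE

end Main

end K785.KapBC
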