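import Groth.Agent.FSch.K785.LocVan
import Groth.Agent.FSch.K181.RelBound
import Groth.Agent.FSch.K182.K4Der
import Groth.Agent.FSch.K180.KapInd

/-!
# Local bounds for the cohomology sheaves of `Rf_*` and `Rf̂_*`
-/

set_option autoImplicit false
universe u

open CategoryTheory CategoryTheory.Limits Opposite DerivedCategory TopologicalSpace AlgebraicGeometry

namespace K785.LocBound

attribute [local instance] HasDerivedCategory.standard

open K29.RSec K29.RStalk K29.RExact K182.QCBound Groth.Agent.FormalB.OpenMV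

section Top

open K578.ModTest

variable {T₁ T₂ : TopCat.{u}} {O₁ : Sheaf (Opens.grothendieckTopology T₁) CommRingCat.{u}}
  {O₂ : Sheaf (Opens.grothendieckTopology T₂) CommRingCat.{u}}
  (f : ModSite.RMor O₁ O₂) [SiteCmp.HasRpushD f]

theorem subsingleton_St_homology (A : ObjectProperty (ModSite.Mod O₁)) {B₁ : Set (Opens T₁)} (hB₁ : Opens.IsBasis B₁)
    (hA : K182.TopRlim.AcycOn O₁ A B₁) (V : Opens T₂) (y : T₂) (hy : y ∈ V) (B' : Set (Opens T₂))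
    (hB' : ∀ U : Opens T₂, U ≤ V → ∀ x ∈ U, ∃ W ∈ B', x ∈ W ∧ W ≤ U) (d : ℕ)
    (hd : ∀ W ∈ B', ∀ F, A F → ∀ q : ℕ, d < q → Subsingleton (ModSite.HU O₁ F q (f.fn.obj W)))
    (Y : DerivedCategory (ModSite.Mod O₁)) (hY : WSerre.cohIn A Y) (b : ℤ) [Y.IsLE b] (j : ℤ) (hj : b + d < j) :
    Subsingleton (St ((homologyFunctor _ j).obj ((SiteCmp.RpushD f).obj Y)) y) := by
  let _ := K578.Der.rpushCommShift f
  have := K578.Der.rpush_isTriangulated f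
  have h0 : Subsingleton (St ((homologyFunctor _ 0).obj ((SiteCmp.RpushD f).obj (Y⟦j⟧))) y) :=
    LocVan.subsingleton_St f V y hy B' hB' _ fun W hW _ ξ =>
      K182.TopRlim.hom_PM_eq_zero O₁ hB₁ hA _ d (fun F hF q hq => hd W hW F hF q hq) Y hY b j hj ξ
  let e : (homologyFunctor _ 0).obj ((SiteCmp.RpushD f).obj (Y⟦j⟧)) ≅
      (homologyFunctor _ j).obj ((SiteCmp.RpushD f).obj Y) :=
    ((homologyFunctor _ 0).mapIso (((SiteCmp.RpushD f).commShiftIso j).app Y)) ≪≫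
      ((homologyFunctor _ 0).shiftIso j 0 j (by lia)).app _
  have h1 : Subsingleton ((StF.stF y).obj ((homologyFunctor _ 0).obj ((SiteCmp.RpushD f).obj (Y⟦j⟧)))) := h0
  exact ((StF.stF y).mapIso e).addCommGroupIsoToAddEquiv.symm.subsingleton

end Top

section Sch

variable {X Y : Scheme.{u}}

theorem exists_bound_at [QuasiSeparatedSpace X] (f : X ⟶ Y) [QuasiCompact f] (y : Y) :
    ∃ (V : Y.Opens) (B : Set Y.Opens) (d : ℕ), y ∈ V ∧ (∀ U : Y.Opens, U ≤ V → ∀ x ∈ U, ∃ W ∈ B, x ∈ W ∧ W ≤ U) ∧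
      ∀ W ∈ B, ∀ (F : CohTop.Ab X.toTopCat), Acyc F → ∀ q, d < q → Subsingleton (HO F q (f ⁻¹ᵁ W)) := by
  obtain ⟨V, hV, hy, _⟩ := exists_isAffineOpen_mem_and_subset (X := Y) (x := y) (U := ⊤) trivial
  obtain ⟨d, hd⟩ := K181.RelBound.exists_relBound (f ⁻¹ᵁ V) (f.isCompact_preimage hV.isCompact)
  refine ⟨V, {V' | ∃ g : Γ(Y, V), V' = Y.basicOpen g}, d, hy, fun U hU x hx => ?_, ?_⟩
  · obtain ⟨g, hg, hxg⟩ := hV.exists_basicOpen_le (V := U) ⟨x, hx⟩ (hU hx)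
    exact ⟨_, ⟨g, rfl⟩, hxg, hg⟩
  · rintro _ ⟨g, rfl⟩ F hF q hq
    have h1 : f ⁻¹ᵁ Y.basicOpen g = X.basicOpen (f.app V g) := Scheme.preimage_basicOpen f g
    have h2 : f ⁻¹ᵁ Y.basicOpen g = f ⁻¹ᵁ Y.basicOpen g ⊓ f ⁻¹ᵁ V := by
      rw [inf_eq_left.2]
      exact f.preimage_mono (Y.basicOpen_le g)
    rw [h2]
    refine hd _ (fun U hU hUW => ?_) F hF q hq
    have h3 := hU.basicOpen (X.presheaf.map (homOfLE hUW).op (f.app V g))
    rw [Scheme.basicOpen_res, ← h1, inf_comm] at h3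
    exact h3

/-- `(H^i(Rf_* G))_y = 0` for `i > b + e`, if `G ∈ D^{≤ b}` has quasi-coherent cohomology. -/
theorem exists_bound_sch [IsLocallyNoetherian X] (f : X ⟶ Y) [QuasiCompact f]
    [SiteCmp.HasRpushD (ModSite.RMor.ofScheme f)] (y : Y) :
    ∃ e : ℕ, ∀ (G : DerivedCategory (ModSite.Mod X.sheaf)) (b : ℤ), WSerre.cohIn (K182.SchLoc.qc X) G → G.IsLE b →
      ∀ i : ℤ, b + e < i →
        Subsingleton (St ((homologyFunctor _ i).obj ((SiteCmp.RpushD (ModSite.RMor.ofScheme f)).obj G)) y) := by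
  obtain ⟨V, B, d, hy, hB, hd⟩ := exists_bound_at f y
  refine ⟨d, fun G b hG hb i hi => ?_⟩
  exact subsingleton_St_homology (ModSite.RMor.ofScheme f) (K182.SchLoc.qc X) X.isBasis_affineOpens
    K182.K4Der.acycOn V y hy B hB d (fun W hW F hF q hq => hd W hW (ModSite.toAb F)
      (fun V hV q hq => K182.K4Der.acycOn F hF V hV q hq) q hq) G hG b i hi

end Sch

section Formal

variable (𝔛 𝔜 : FSch.Sys.{u}) (h𝔛 : 𝔛.IsLocNoethFormal) (h𝔜 : 𝔜.IsFormal)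

theorem exists_bound_formal (f : 𝔛 ⟶ 𝔜) [QuasiCompact ((f : FSch.Hom 𝔛 𝔜).app 0)]
    [SiteCmp.HasRpushD (FSch.homMor f h𝔛.1 h𝔜)] (P : ObjectProperty (FSch.ModF 𝔛 h𝔛.1))
    (hP : K182.TopRlim.AcycOn (𝔛.Osh h𝔛.1) P (K182.FBound.affs 𝔛)) (y : 𝔜.X 0) :
    ∃ e : ℕ, ∀ (G : DerivedCategory (FSch.ModF 𝔛 h𝔛.1)) (b : ℤ), WSerre.cohIn P G → G.IsLE b →
      ∀ i : ℤ, b + e < i →
        Subsingleton (St ((homologyFunctor _ i).obj ((SiteCmp.RpushD (FSch.homMor f h𝔛.1 h𝔜)).obj G)) y) := by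
  have h1 := h𝔛.2.2 0
  obtain ⟨V, B, d, hy, hB, hd⟩ := exists_bound_at ((f : FSch.Hom 𝔛 𝔜).app 0) y
  refine ⟨d, fun G b hG hb i hi => ?_⟩
  exact subsingleton_St_homology (FSch.homMor f h𝔛.1 h𝔜) P (K182.FBound.isBasis 𝔛)
    hP V y hy B hB d (fun W hW F hF q hq => hd W hW (ModSite.toAb F)
      (fun V hV q hq => hP F hF V hV q hq) q hq) G hG b i hi

end Formal

end K785.LocBound
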