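import Groth.Agent.FSch.K182.RFZero
import Groth.Agent.FSch.K785.StF

/-!
# Local vanishing of the cohomology sheaves of `Rf_* Y`
-/

set_option autoImplicit false
universe w u

open CategoryTheory CategoryTheory.Limits Opposite DerivedCategory TopologicalSpace

namespace K785.LocVan

open Groth.Agent.CohtopB Groth.Agent.CohtopB.TestSys K578.Bound K578.LComp K29.RSec K29.RStalk K29.RExact

attribute [local instance] HasDerivedCategory.standard

section Abs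

variable {A₁ : Type (u + 1)} [Category.{u} A₁] [Abelian A₁] [HasDerivedCategory.{w} A₁]
  {C : Type u} [Category.{u} C] {P₁ : C ⥤ A₁}
  {A₂ : Type (u + 1)} [Category.{u} A₂] [Abelian A₂] [HasDerivedCategory.{w} A₂]
  {D : Type u} [Category.{u} D] {K : GrothendieckTopology D} {P₂ : D ⥤ A₂} (hP₂ : TestSystem K P₂)
  {fn : D ⥤ C} {RF : DerivedCategory A₁ ⥤ DerivedCategory A₂} [RF.CommShift ℤ] [RF.IsTriangulated]
  (cmp : LocComp K P₁ P₂ fn RF)

include hP₂ cmp in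
/-- Sections over `U` of `H⁰(RF Y)` vanish if `Hom(P₁(fn W)[0], Y) = 0` for `W ⟶ U` in a basis. -/
theorem section_eq_zero (B' : D → Prop) (hB' : ∀ U : D, gen (⊤ : Sieve U) B' ∈ K U) (Y : DerivedCategory A₁)
    (U : D)
    (h : ∀ (W : D) (_ : W ⟶ U), B' W → ∀ ξ : (singleFunctor A₁ 0).obj (P₁.obj (fn.obj W)) ⟶ Y, ξ = 0)
    (s : P₂.obj U ⟶ (homologyFunctor A₂ 0).obj (RF.obj Y)) : s = 0 := by
  let T2 : Sieve U :=
    { arrows := fun W g => ∃ ξ : (singleFunctor A₁ 0).obj (P₁.obj (fn.obj W)) ⟶ Y,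
        can₀ (cmp.η.app W ≫ RF.map ξ) = P₂.map g ≫ s
      downward_closed := by
        rintro W W' g ⟨ξ, h1⟩ k
        refine ⟨(singleFunctor A₁ 0).map (P₁.map (fn.map k)) ≫ ξ, ?_⟩
        have h5 := cmp.η.naturality k
        dsimp only [Functor.comp_map] at h5
        rw [RF.map_comp, ← reassoc_of% h5, can₀_precomp, h1, P₂.map_comp, Category.assoc] }
  have hT2 : T2 ∈ K U := by
    obtain ⟨T1, hT1, h1⟩ := loc_surj₀ hP₂ s
    refine K.transitive hT1 _ fun W g hg => ?_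
    obtain ⟨x, hx⟩ := h1 g hg
    obtain ⟨T3, hT3, h3⟩ := cmp.surj x
    refine K.superset_covering (fun W' g' hg' => ?_) hT3
    obtain ⟨ξ, hξ⟩ := h3 g' hg'
    refine ⟨ξ, ?_⟩
    rw [hξ, can₀_precomp, hx, P₂.map_comp, Category.assoc]
  refine eq_zero_of_gen hP₂ T2 B' (gen_mem_of_cover B' hB' T2 hT2) s ?_
  rintro W g ⟨ξ, h1⟩ hW
  rw [← h1, h W g hW ξ, RF.map_zero, comp_zero, can₀_zero]

end Abs

section Top

open K578.ModTest

variable {T₁ T₂ : TopCat.{u}} {O₁ : Sheaf (Opens.grothendieckTopology T₁) CommRingCat.{u}}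
  {O₂ : Sheaf (Opens.grothendieckTopology T₂) CommRingCat.{u}}
  (f : ModSite.RMor O₁ O₂) [SiteCmp.HasRpushD f]

/-- Sections over `U ≤ V` of `H⁰(Rf_*Y)` vanish. -/
theorem hom_eq_zero (V : Opens T₂) (B' : Set (Opens T₂))
    (hB' : ∀ U : Opens T₂, U ≤ V → ∀ x ∈ U, ∃ W ∈ B', x ∈ W ∧ W ≤ U) (Y : DerivedCategory (ModSite.Mod O₁))
    (h : ∀ W ∈ B', W ≤ V → ∀ ξ : (singleFunctor _ 0).obj ((PM (ModSite.ringSh O₁)).obj (f.fn.obj W)) ⟶ Y, ξ = 0)
    (U : Opens T₂) (hU : U ≤ V) (s : (PM (ModSite.ringSh O₂)).obj U ⟶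
      (homologyFunctor _ 0).obj ((SiteCmp.RpushD f).obj Y)) : s = 0 := by
  let _ := K578.Der.rpushCommShift f
  have := K578.Der.rpush_isTriangulated f
  refine section_eq_zero (testSystem (ModSite.ringSh O₂)) (K578.PushComp.comp f) (fun W => W ∈ B' ∨ ¬ W ≤ V)
    (fun U' => ?_) Y U (fun W g hW ξ => ?_) s
  · have h1 : ∀ x : U', ∃ W : Opens T₂, (W ∈ B' ∨ ¬ W ≤ V) ∧ x.1 ∈ W ∧ W ≤ U' := by
      intro x
      by_cases hx : x.1 ∈ V
      · obtain ⟨W, hW, hxW, hWU⟩ := hB' (U' ⊓ V) inf_le_right x.1 ⟨x.2, hx⟩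
        exact ⟨W, Or.inl hW, hxW, hWU.trans inf_le_left⟩
      · exact ⟨U', Or.inr fun hle => hx (hle x.2), x.2, le_rfl⟩
    choose W hW hxW hWU using h1
    refine gen_mem_of_ofArrows ⊤ _ W (fun x => homOfLE (hWU x)) (fun _ => trivial) ?_ hW
    intro x hx
    exact ⟨W ⟨x, hx⟩, homOfLE (hWU ⟨x, hx⟩), Sieve.ofArrows_mk W (fun x => homOfLE (hWU x)) ⟨x, hx⟩, hxW ⟨x, hx⟩⟩
  · rcases hW with hW | hW
    · exact h W hW ((leOfHom g).trans hU) ξ
    · exact absurd ((leOfHom g).trans hU) hW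

/-- The stalk at `y ∈ V` of `H⁰(Rf_*Y)` vanishes. -/
theorem subsingleton_St (V : Opens T₂) (y : T₂) (hy : y ∈ V) (B' : Set (Opens T₂))
    (hB' : ∀ U : Opens T₂, U ≤ V → ∀ x ∈ U, ∃ W ∈ B', x ∈ W ∧ W ≤ U) (Y : DerivedCategory (ModSite.Mod O₁))
    (h : ∀ W ∈ B', W ≤ V → ∀ ξ : (singleFunctor _ 0).obj ((PM (ModSite.ringSh O₁)).obj (f.fn.obj W)) ⟶ Y, ξ = 0) :
    Subsingleton (St ((homologyFunctor _ 0).obj ((SiteCmp.RpushD f).obj Y)) y) := by
  let M := (homologyFunctor _ 0).obj ((SiteCmp.RpushD f).obj Y)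
  have h0 : ∀ a : St M y, a = 0 := by
    intro a
    obtain ⟨U, hU, s, rfl⟩ := exists_gm M y a
    have h1 : (homEq (ModSite.ringSh O₂) (U ⊓ V) M).symm (res M (inf_le_left : U ⊓ V ≤ U) s) = 0 :=
      hom_eq_zero f V B' hB' Y h _ inf_le_right _
    have h2 : res M (inf_le_left : U ⊓ V ≤ U) s = 0 :=
      ((homEq (ModSite.ringSh O₂) (U ⊓ V) M).apply_symm_apply _).symm.trans
        ((congrArg (homEq (ModSite.ringSh O₂) (U ⊓ V) M) h1).trans homEq_zero)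
    rw [← gm_res M y (inf_le_left : U ⊓ V ≤ U) ⟨hU, hy⟩ s, h2, map_zero]
  exact ⟨fun a b => by rw [h0 a, h0 b]⟩

end Top

end K785.LocVan
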