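import Groth.Agent.FSch.K785.PushFilt
import Groth.Agent.FSch.K180.Main
import Groth.Agent.FSch.K181.RelBound
import Groth.Agent.SiteCmp.K578.Downstairs

/-!
# Unbounded direct images and weak Serre classes

* `cohIn_RpushD`: `f` a morphism of ringed sites, `A`, `A'` weak Serre classes with `R^p f_* A ⊆ A'` and `Rf_*` of
  bounded amplitude on `D_A`; then `Rf_* D_A ⊆ D_{A'}`.
* `ind_Rpush`: for a morphism of Noetherian formal schemes such that `R^q f_*` preserves coherence, `R^q f_*` preserves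
  filtered colimits of coherent modules.
-/

set_option autoImplicit false
universe u

open CategoryTheory CategoryTheory.Limits Opposite TopologicalSpace DerivedCategory

attribute [local instance] HasDerivedCategory.standard

namespace K785.ProperPush

section Gen

universe w w' v v' u₁ u₂

variable {A : Type u₁} [Category.{v} A] [Abelian A] [HasDerivedCategory.{w} A]
  {B : Type u₂} [Category.{v'} B] [Abelian B] [HasDerivedCategory.{w'} B]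
  (P : ObjectProperty A) [WSerre.IsWeakSerre P] (Q : ObjectProperty B) [WSerre.IsWeakSerre Q]
  (Φ : DerivedCategory A ⥤ DerivedCategory B) [Φ.CommShift ℤ] [Φ.IsTriangulated]

/-- Unbounded devissage for left t-exact functors of bounded amplitude on `D_P`. -/
theorem cohIn_map (hΦ : K578.AdjDev.LTE Φ) (e : ℤ)
    (hb : ∀ (G : DerivedCategory A) (b : ℤ), WSerre.cohIn P G → G.IsLE b →
      ∀ i : ℤ, b + e < i → IsZero ((homologyFunctor B i).obj (Φ.obj G)))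
    (h3 : ∀ F : A, P F → WSerre.cohIn Q (Φ.obj ((singleFunctor A 0).obj F)))
    (X : DerivedCategory A) (hX : WSerre.cohIn P X) : WSerre.cohIn Q (Φ.obj X) := by
  intro j
  have hT : (TStructure.t.triangleLTGE (j - e)).obj X ∈ distTriang _ :=
    TStructure.t.triangleLTGE_distinguished (j - e) X
  have h1 : ((TStructure.t.truncLT (j - e)).obj X).IsLE (j - e - 1) := TStructure.t.isLE_truncLT_obj _ _ _ (by lia)
  have hc1 : WSerre.cohIn P ((TStructure.t.truncLT (j - e)).obj X) := K578.CoreEq.cohIn_truncLT P X hX (j - e)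
  have hiso := K578.AdjDev.isIso_homology_map_mor₂ Φ _ hT j
    (hb ((TStructure.t.truncLT (j - e)).obj X) (j - e - 1) hc1 h1 j (by lia))
    (hb ((TStructure.t.truncLT (j - e)).obj X) (j - e - 1) hc1 h1 (j + 1) (by lia))
  have h2 : ((TStructure.t.truncGE (j - e)).obj X).IsGE (j - e) := TStructure.t.isGE_truncGE_obj _ _ _ le_rfl
  have h5 := K578.CohDev.cohIn_map_of_isGE Q Φ hΦ ((TStructure.t.truncGE (j - e)).obj X) (j - e)
    (fun q => h3 _ (K578.CoreEq.cohIn_truncGE P X hX (j - e) q)) j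
  exact Q.prop_of_iso (@asIso _ _ _ _ _ hiso).symm h5

end Gen

section Abs

variable {C : Type u} [SmallCategory C] {J : GrothendieckTopology C} {O_C : Sheaf J CommRingCat.{u}}
    {D : Type u} [SmallCategory D] {K : GrothendieckTopology D} {O_D : Sheaf K CommRingCat.{u}}
    (f : ModSite.RMor O_C O_D) [HasInjectiveResolutions (ModSite.Mod O_C)] [SiteCmp.HasRpushD f]
    (A : ObjectProperty (ModSite.Mod O_C)) [WSerre.IsWeakSerre A]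
    (A' : ObjectProperty (ModSite.Mod O_D)) [WSerre.IsWeakSerre A']

/-- `Rf_*` maps `D_A` to `D_{A'}` if it has bounded amplitude on `D_A` and `R^p f_* A ⊆ A'`. -/
theorem cohIn_RpushD (e : ℤ)
    (hb : ∀ (G : DerivedCategory (ModSite.Mod O_C)) (b : ℤ), WSerre.cohIn A G → G.IsLE b →
      ∀ i : ℤ, b + e < i → IsZero (SiteCmp.HMod ((SiteCmp.RpushD f).obj G) i))
    (h3 : ∀ F : ModSite.Mod O_C, A F → ∀ p : ℕ, A' ((f.Rpush p).obj F))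
    (X : DerivedCategory (ModSite.Mod O_C)) (hX : WSerre.cohIn A X) :
    WSerre.cohIn A' ((SiteCmp.RpushD f).obj X) := by
  let _ := K578.Der.rpushCommShift f
  have := K578.Der.rpush_isTriangulated f
  exact cohIn_map A A' (SiteCmp.RpushD f) (K578.RpushSingle.lte f) e hb
    (fun F hF => K578.Downstairs.cohIn_single f A A' h3 F hF) X hX

end Abs

variable (𝔛 𝔜 : FSch.Sys.{u}) (h𝔛 : 𝔛.IsLocNoethFormal) (h𝔜 : 𝔜.IsLocNoethFormal)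

/-- `R^q f_*` preserves filtered colimits of coherent modules if it preserves coherent modules. -/
theorem ind_Rpush [CompactSpace (𝔛.X 0)] [CompactSpace (𝔜.X 0)] (f : 𝔛 ⟶ 𝔜)
    [HasInjectiveResolutions (FSch.ModF 𝔛 h𝔛.1)]
    (hc : ∀ (𝔉 : FSch.ModF 𝔛 h𝔛.1), FSch.IsCohF 𝔛 h𝔛.1 𝔉 → ∀ q : ℕ,
      FSch.IsCohF 𝔜 h𝔜.1 ((FSch.RpushF f h𝔛.1 h𝔜.1 q).obj 𝔉))
    (𝔉 : FSch.ModF 𝔛 h𝔛.1)
    (h𝔉 : (ObjectProperty.ind.{u} fun 𝔊 : FSch.ModF 𝔛 h𝔛.1 => FSch.IsCohF 𝔛 h𝔛.1 𝔊) 𝔉) (q : ℕ) :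
    (ObjectProperty.ind.{u} fun 𝔊 : FSch.ModF 𝔜 h𝔜.1 => FSch.IsCohF 𝔜 h𝔜.1 𝔊)
      ((FSch.RpushF f h𝔛.1 h𝔜.1 q).obj 𝔉) := by
  have := K181.RelBound.noetherianSpace 𝔛 h𝔛
  obtain ⟨J, _, _, pres, hpres⟩ := h𝔉
  have := PushFilt.preservesColimitsOfShape_Rpush (I := J) (FSch.homMor f h𝔛.1 h𝔜.1) q
  exact ⟨J, inferInstance, inferInstance, pres.map (FSch.RpushF f h𝔛.1 h𝔜.1 q), fun i => hc _ (hpres i) q⟩

/-- Unbounded direct images preserve coherent cohomology, if `R^q f_*` preserves coherence. -/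
theorem isCohF_RpushD [CompactSpace (𝔛.X 0)] [CompactSpace (𝔜.X 0)] (f : 𝔛 ⟶ 𝔜)
    [HasInjectiveResolutions (FSch.ModF 𝔛 h𝔛.1)] [SiteCmp.HasRpushD (FSch.homMor f h𝔛.1 h𝔜.1)]
    (hc : ∀ (𝔉 : FSch.ModF 𝔛 h𝔛.1), FSch.IsCohF 𝔛 h𝔛.1 𝔉 → ∀ q : ℕ,
      FSch.IsCohF 𝔜 h𝔜.1 ((FSch.RpushF f h𝔛.1 h𝔜.1 q).obj 𝔉))
    (G : DerivedCategory (FSch.ModF 𝔛 h𝔛.1)) (hG : ∀ i : ℤ, FSch.IsCohF 𝔛 h𝔛.1 (SiteCmp.HMod G i)) (i : ℤ) :
    FSch.IsCohF 𝔜 h𝔜.1 (SiteCmp.HMod ((SiteCmp.RpushD (FSch.homMor f h𝔛.1 h𝔜.1)).obj G) i) := by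
  have h1 : WSerre.IsWeakSerre (K180.Main.Coh h𝔛) := K180.WSer.isWeakSerre_isCohF h𝔛
  have h2 : WSerre.IsWeakSerre (K180.Main.Coh h𝔜) := K180.WSer.isWeakSerre_isCohF h𝔜
  have hA : K182.TopRlim.AcycOn (𝔛.Osh h𝔛.1) (K180.Main.Coh h𝔛) (K182.FBound.affs 𝔛) := fun F hF V hV q hq =>
    K181.RelBound.acycOn_indCoh 𝔛 h𝔛 F (ObjectProperty.le_ind _ _ hF) V hV q hq
  obtain ⟨e, he⟩ := K181.RelBound.exists_bound 𝔛 𝔜 h𝔛 h𝔜.1 f (K180.Main.Coh h𝔛) hA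
  exact cohIn_RpushD (FSch.homMor f h𝔛.1 h𝔜.1) (K180.Main.Coh h𝔛) (K180.Main.Coh h𝔜) e
    (fun G b hG hb i hi => he G b hG hb i hi) (fun F hF p => hc F hF p) G hG i

/-- Unbounded direct images preserve ind-coherent cohomology, if `R^q f_*` preserves coherence. -/
theorem indCohF_RpushD [CompactSpace (𝔛.X 0)] [CompactSpace (𝔜.X 0)] (f : 𝔛 ⟶ 𝔜)
    [HasInjectiveResolutions (FSch.ModF 𝔛 h𝔛.1)] [SiteCmp.HasRpushD (FSch.homMor f h𝔛.1 h𝔜.1)]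
    (hc : ∀ (𝔉 : FSch.ModF 𝔛 h𝔛.1), FSch.IsCohF 𝔛 h𝔛.1 𝔉 → ∀ q : ℕ,
      FSch.IsCohF 𝔜 h𝔜.1 ((FSch.RpushF f h𝔛.1 h𝔜.1 q).obj 𝔉))
    (G : DerivedCategory (FSch.ModF 𝔛 h𝔛.1))
    (hG : ∀ i : ℤ, (ObjectProperty.ind.{u} fun 𝔊 : FSch.ModF 𝔛 h𝔛.1 => FSch.IsCohF 𝔛 h𝔛.1 𝔊) (SiteCmp.HMod G i))
    (i : ℤ) :
    (ObjectProperty.ind.{u} fun 𝔊 : FSch.ModF 𝔜 h𝔜.1 => FSch.IsCohF 𝔜 h𝔜.1 𝔊)
      (SiteCmp.HMod ((SiteCmp.RpushD (FSch.homMor f h𝔛.1 h𝔜.1)).obj G) i) := by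
  have h1 : WSerre.IsWeakSerre (K180.Main.Ind h𝔛) := K180.Main.isWeakSerre_ind h𝔛
  have h2 : WSerre.IsWeakSerre (K180.Main.Ind h𝔜) := K180.Main.isWeakSerre_ind h𝔜
  obtain ⟨e, he⟩ := K181.RelBound.exists_bound 𝔛 𝔜 h𝔛 h𝔜.1 f (K180.Main.Ind h𝔛) (K181.RelBound.acycOn_indCoh 𝔛 h𝔛)
  exact cohIn_RpushD (FSch.homMor f h𝔛.1 h𝔜.1) (K180.Main.Ind h𝔛) (K180.Main.Ind h𝔜) e
    (fun G b hG hb i hi => he G b hG hb i hi) (fun F hF p => ind_Rpush 𝔛 𝔜 h𝔛 h𝔜 f hc F hF p) G hG i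

end K785.ProperPush
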