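import Groth.Agent.FSch.K785.FiltDer
import Groth.Agent.FSch.K181.PushCoprod

/-!
# Higher direct images and filtered colimits on Noetherian spaces

`f : (T₁, O₁) ⟶ (T₂, O₂)` a morphism of ringed spaces (`ModSite.RMor`) with `T₁` Noetherian.
* `isIso_post_push`, `preservesColimitsOfShape_push`: `f_*` commutes with filtered colimits;
* `isFlasque_colimit`: filtered colimits of injective modules are flasque;
* `isAcyc_colimit`;
* `preservesColimitsOfShape_Rpush`: `R^q f_*` commutes with filtered colimits.
-/

set_option autoImplicit false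
set_option linter.style.haveILetI false
universe u

open CategoryTheory CategoryTheory.Limits TopologicalSpace Opposite

attribute [local instance] HasDerivedCategory.standard

noncomputable section

namespace K785.PushFilt

open K29.RSec K29.RStalk K181.Good Groth.Agent.Etrest

variable {T₁ T₂ : TopCat.{u}} {O₁ : Sheaf (Opens.grothendieckTopology T₁) CommRingCat.{u}}
  {O₂ : Sheaf (Opens.grothendieckTopology T₂) CommRingCat.{u}} (f : ModSite.RMor O₁ O₂)
  {I : Type u} [SmallCategory I] [IsFiltered I]

/-- Sections of a filtered colimit over an open subset of a Noetherian space come from a stage. -/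
theorem exists_rep_noeth [NoetherianSpace T₁] {D : I ⥤ Mod O₁} {c : Cocone D} (hc : IsColimit c) {V : Opens T₁}
    (s : Sec c.pt V) : ∃ (j : I) (t : Sec (D.obj j) V), app (inj c j) V t = s := by
  refine exists_rep hc (fun {κ} W hW => ?_) s
  have hV : IsCompact (V : Set T₁) := NoetherianSpace.isCompact _
  obtain ⟨S, hS⟩ := hV.elim_finite_subcover (fun k : κ => (W k : Set T₁)) (fun k => (W k).isOpen)
    (by rw [← hW, Opens.coe_iSup])
  refine ⟨ULift.{u} S, inferInstance, fun i => W i.down, ?_, fun i => ⟨i.down, le_rfl⟩,
    fun i i' => NoetherianSpace.isCompact _⟩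
  refine le_antisymm (iSup_le fun i => hW ▸ le_iSup W i.down) fun x hx => ?_
  obtain ⟨k, hk, hxk⟩ := Set.mem_iUnion₂.1 (hS hx)
  exact Opens.mem_iSup.2 ⟨⟨⟨k, hk⟩⟩, hxk⟩

/-- `f_*` commutes with filtered colimits. -/
theorem isIso_post_push [NoetherianSpace T₁] (D : I ⥤ Mod O₁) : IsIso (colimit.post D f.push) := by
  let hc := colimit.isColimit D
  let hc' := colimit.isColimit (D ⋙ f.push)
  have hθ : ∀ j, inj (colimit.cocone (D ⋙ f.push)) j ≫ colimit.post D f.push = f.push.map (inj (colimit.cocone D) j) :=
    fun j => colimit.ι_post D f.push j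
  refine K29.RBasis.isIso_of_local _ fun x V hx => ⟨V, hx, le_rfl, ?_, fun t => ?_⟩
  · rw [injective_iff_map_eq_zero]
    intro s hs
    refine eq_of_forall_nhds _ _ _ fun y hy => ?_
    obtain ⟨j, W, hyW, hWV, t, ht⟩ := exists_local_rep hc' s y hy
    refine ⟨W, hyW, hWV, ?_⟩
    have h1 : app (inj (colimit.cocone D) j) (f.fn.obj W) (show Sec (D.obj j) (f.fn.obj W) from t) = 0 := by
      have h2 : app (colimit.post D f.push) W (app (inj (colimit.cocone (D ⋙ f.push)) j) W t) = 0 := by
        rw [ht]
        exact (app_res (colimit.post D f.push) hWV s).trans ((congrArg _ hs).trans (map_zero _))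
      rw [← app_comp, hθ] at h2
      exact h2
    obtain ⟨k, φ, hk⟩ := exists_eq_zero hc (NoetherianSpace.isCompact _) _ h1
    refine ht.symm.trans ?_
    rw [← map_inj (colimit.cocone (D ⋙ f.push)) φ, app_comp]
    have h3 : app ((D ⋙ f.push).map φ) W t = 0 := hk
    rw [h3, map_zero]
    exact (map_zero _).symm
  · obtain ⟨j, t', ht'⟩ := exists_rep_noeth hc (show Sec (colimit D) (f.fn.obj V) from t)
    refine ⟨app (inj (colimit.cocone (D ⋙ f.push)) j) V (show Sec (f.push.obj (D.obj j)) V from t'), ?_⟩
    rw [← app_comp, hθ]
    exact ht'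

theorem preservesColimitsOfShape_push [NoetherianSpace T₁] : PreservesColimitsOfShape I f.push where
  preservesColimit {D} := by
    have := isIso_post_push f D
    exact preservesColimit_of_isIso_post f.push D

/-- Filtered colimits of injective modules on a Noetherian space are flasque. -/
theorem isFlasque_colimit [NoetherianSpace T₁] (D : I ⥤ Mod O₁) (hD : ∀ j, Injective (D.obj j)) :
    TopCat.Sheaf.IsFlasque (ModSite.toAb (colimit D)) where
  epi {U V} i := by
    rw [AddCommGrpCat.epi_iff_surjective]
    intro s
    obtain ⟨j, t, ht⟩ := exists_rep_noeth (colimit.isColimit D) (show Sec (colimit D) V.unop from s)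
    have := hD j
    obtain ⟨t', ht'⟩ := K181.PushCoprod.res_surjective_of_injective (D.obj j) (leOfHom i.unop) t
    refine ⟨(show Sec (colimit D) U.unop from app (inj (colimit.cocone D) j) U.unop t'), ?_⟩
    have h1 : res (colimit D) (leOfHom i.unop) (app (inj (colimit.cocone D) j) U.unop t') = s := by
      refine (app_res (inj (colimit.cocone D) j) (leOfHom i.unop) t').symm.trans ?_
      rw [ht']
      exact ht
    exact h1

/-- Filtered colimits of injectives are acyclic for `f_*`. -/
theorem isAcyc_colimit [NoetherianSpace T₁] (D : I ⥤ Mod O₁) (hD : ∀ j, Injective (D.obj j)) :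
    haveI := K578.Der.enoughInjectives O₁
    RDer2.IsAcyc f.push (colimit D) := by
  have := K578.Der.enoughInjectives O₁
  intro q
  have : SiteCmp.HasRpushD f := K578.Der.hasRpushD f
  have h1 := isFlasque_colimit D hD
  have h2 := (K578.LocZero.isZero_homologySingle_of_local f (colimit D) (q + 1) Set.univ
    (K181.PushCoprod.exists_cover_univ T₂)
    (fun W _ => Groth.Agent.S0452.result (ModSite.toAb (colimit D)) (f.fn.obj W) q))
  exact h2.of_iso (K578.RpushSingle.homologySingle f (colimit D) (q + 1)).symm

/-- **`R^q f_*` commutes with filtered colimits** if the source is a Noetherian space. -/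
theorem preservesColimitsOfShape_Rpush [NoetherianSpace T₁] [HasInjectiveResolutions (ModSite.Mod O₁)] (q : ℕ) :
    PreservesColimitsOfShape I (f.Rpush q) := by
  have hA : IsGrothendieckAbelian.{u} (ModSite.Mod O₁) := Groth.Agent.S0484.result _ (ModSite.ringSh O₁)
  have := K578.Der.enoughInjectives O₁
  have := preservesColimitsOfShape_push (I := I) f
  have hfl : PreservesFiniteLimits f.push := K578.LocZero.preservesFiniteLimits_push f
  have hex : HasExactColimitsOfShape I (ModSite.Mod O₁) := inferInstance
  exact FiltDer.preservesColimitsOfShape_rightDerived f.push (fun J hJ => isAcyc_colimit f J hJ) q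

end K785.PushFilt
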