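import Groth.Agent.FTors.K920.ExDer

/-!
# `a_* ⋙ Rf_* ≅ Rb_* ⋙ c_*` for a commutative square of ringed sites with `a_*`, `c_*`, `a^*` exact
-/

set_option autoImplicit false
universe u

open CategoryTheory CategoryTheory.Limits Opposite

attribute [local instance] HasDerivedCategory.standard

namespace K785.Sigma

open Groth.Agent.Dcoh.DerAbs Groth.Agent.Dcoh.DerHo Groth.Agent.Dcoh.DerAdj
  Groth.Agent.Dcoh.DerComp K578.Der

variable {C₁ : Type u} [SmallCategory C₁] {J₁ : GrothendieckTopology C₁}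
  {C₂ : Type u} [SmallCategory C₂] {J₂ : GrothendieckTopology C₂}
  {C₃ : Type u} [SmallCategory C₃] {J₃ : GrothendieckTopology C₃}
  {C₄ : Type u} [SmallCategory C₄] {J₄ : GrothendieckTopology C₄}
  {O₁ : Sheaf J₁ CommRingCat.{u}} {O₂ : Sheaf J₂ CommRingCat.{u}} {O₃ : Sheaf J₃ CommRingCat.{u}}
  {O₄ : Sheaf J₄ CommRingCat.{u}}
  (a : ModSite.RMor O₁ O₂) (f : ModSite.RMor O₂ O₄) (b : ModSite.RMor O₁ O₃) (c : ModSite.RMor O₃ O₄)

theorem nonempty_sigma [SiteCmp.HasRpushD f] [SiteCmp.HasRpushD b] [PreservesFiniteColimits a.push]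
    [PreservesFiniteColimits c.push] [PreservesFiniteLimits a.pull]
    (e : a.push ⋙ f.push ≅ b.push ⋙ c.push) :
    Nonempty (a.push.mapDerivedCategory ⋙ SiteCmp.RpushD f ≅ SiteCmp.RpushD b ⋙ c.push.mapDerivedCategory) := by
  have i1 := isRightDerivedFunctor_mapDerivedCategory a.push
  have i3 := hasRightDerivedFunctor (hasKInj O₁) (mapQh (b.push ⋙ c.push))
  let R₃ := (mapQh (b.push ⋙ c.push)).totalRightDerived DerivedCategory.Qh (qis (ModSite.Mod O₁))
  let β₃ := (mapQh (b.push ⋙ c.push)).totalRightDerivedUnit DerivedCategory.Qh (qis (ModSite.Mod O₁))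
  have i4 : R₃.IsRightDerivedFunctor β₃ (qis (ModSite.Mod O₁)) := by
    dsimp [R₃, β₃]
    infer_instance
  obtain ⟨i, -⟩ := nonempty_compIso_right_of_isIso (G₁ := a.push) (G₂ := f.push) (G₃ := b.push ⋙ c.push) e
    (hasKInj O₁) a.push.mapDerivedCategory a.push.mapDerivedCategoryFactorsh.inv (SiteCmp.RpushD f) (rpushUnit f)
    (fun I hI => isIso_rpushUnit_app f ((a.push.mapHomologicalComplex (ComplexShape.up ℤ)).obj I)
      (isKInjective_map a.adj (acyclic_map_exact a.pull) I hI)) R₃ β₃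
  obtain ⟨j, -⟩ := nonempty_compIso_right_of_isIso (G₁ := b.push) (G₂ := c.push) (G₃ := b.push ⋙ c.push) (Iso.refl _)
    (hasKInj O₁) (SiteCmp.RpushD b) (rpushUnit b) c.push.mapDerivedCategory c.push.mapDerivedCategoryFactorsh.inv
    (fun I hI => inferInstance) R₃ β₃
  exact ⟨i ≪≫ j.symm⟩

end K785.Sigma
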